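import Cfsg.Agent.H24.AltStar
import Cfsg.Prelude.Def_SporadicB

/-!
Realising a simple group as a transitive permutation group on the cosets of a subgroup isomorphic
to `A₁₂`, the latter given by ten elements satisfying Carmichael's relations.
-/

set_option autoImplicit false

namespace H81.HNAlt

open Equiv

/-- Ten nontrivial star elements generate a copy of `A₁₂`. -/
theorem exists_altTwelve {G : Type*} [Group G] (ξ : Fin 10 → G) (h3 : ∀ i, ξ i ^ 3 = 1)
    (hsq : ∀ i j, i < j → (ξ i * ξ j) ^ 2 = 1) (hne : ξ 0 ≠ 1) :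
    ∃ A : Subgroup G, Nonempty (alternatingGroup (Fin 12) ≃* A) := by
  classical
  have hsym : ∀ i j, i ≠ j → (ξ i * ξ j) ^ 2 = 1 := fun i j h => by
    rcases lt_or_gt_of_ne h with h | h
    · exact hsq i j h
    · rw [show (ξ i * ξ j) = (ξ j)⁻¹ * (ξ j * ξ i) * ξ j by group]
      have := hsq j i h
      simp only [pow_two] at this ⊢
      calc (ξ j)⁻¹ * (ξ j * ξ i) * ξ j * ((ξ j)⁻¹ * (ξ j * ξ i) * ξ j)
          = (ξ j)⁻¹ * ((ξ j * ξ i) * (ξ j * ξ i)) * ξ j := by group
        _ = 1 := by rw [this]; group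
  let S : Finset (Fin 12) := Finset.univ.filter fun x => x.val < 10
  let η : Fin 12 → G := fun x => if h : x.val < 10 then ξ ⟨x.val, h⟩ else 1
  have hη : ∀ x ∈ S, ∃ h : x.val < 10, η x = ξ ⟨x.val, h⟩ := fun x hx =>
    ⟨(Finset.mem_filter.1 hx).2, dif_pos _⟩
  obtain ⟨Φ, hΦ, hval⟩ := H24.AltPres.star_hom (10 : Fin 12) 11 (by decide) S (by simp [S])
    (by simp [S]) η
    (fun x hx => by obtain ⟨h, e⟩ := hη x hx; rw [e]; exact h3 _)
    (fun x hx y hy hxy => by
      obtain ⟨h, e⟩ := hη x hx; obtain ⟨h', e'⟩ := hη y hy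
      rw [e, e']; exact hsym _ _ fun hh => hxy (Fin.ext (Fin.mk.inj hh)))
  have hall : ∀ g : alternatingGroup (Fin 12),
      g.1 ∈ H24.AltPres.evenIn (insert (10 : Fin 12) (insert 11 S)) := fun g => by
    rw [H24.AltPres.mem_evenIn]
    refine ⟨fun x hx => absurd ?_ hx, Perm.mem_alternatingGroup.1 g.2⟩
    by_cases h : x.val < 10
    · simp [S, h]
    · have := x.isLt
      simp only [Finset.mem_insert, Fin.ext_iff]
      rcases (by omega : x.val = 10 ∨ x.val = 11) with h' | h'
      · exact Or.inl h'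
      · exact Or.inr (Or.inl h')
  let f : alternatingGroup (Fin 12) →* G :=
    MonoidHom.mk' (fun g => Φ g.1) fun a b => hΦ a.1 (hall a) b.1 (hall b)
  have : IsSimpleGroup (alternatingGroup (Fin 12)) :=
    alternatingGroup.isSimpleGroup (by simp)
  have hker : f.ker = ⊥ := by
    rcases IsSimpleGroup.eq_bot_or_eq_top_of_normal f.ker inferInstance with h | h
    · exact h
    · exfalso
      let c : alternatingGroup (Fin 12) :=
        ⟨H24.AltPres.cyc (10 : Fin 12) 11 0, Perm.mem_alternatingGroup.2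
          (H24.AltPres.sign_cyc (by decide) (by decide))⟩
      have hc : f c = 1 := MonoidHom.mem_ker.1 (h ▸ Subgroup.mem_top c)
      refine hne ?_
      rw [← hc]
      show ξ 0 = Φ _
      rw [hval 0 (by simp [S])]
      simp [η]
  exact ⟨f.range, ⟨MonoidHom.ofInjective ((MonoidHom.ker_eq_bot_iff f).1 hker)⟩⟩

/-- A simple group acts faithfully and transitively on the cosets of a proper subgroup. -/
theorem exists_perm_realisation {G : Type*} [Group G] [IsSimpleGroup G] (A : Subgroup G) (n : ℕ)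
    (hn : 1 < n) (hidx : A.index = n) (p : Fin n) :
    ∃ H : Subgroup (Perm (Fin n)), Nonempty (G ≃* H) ∧ MulAction.IsPretransitive H (Fin n) ∧
      Nonempty (MulAction.stabilizer H p ≃* A) := by
  have : A.FiniteIndex := ⟨by omega⟩
  have : Finite (G ⧸ A) := Subgroup.finite_quotient_of_finiteIndex
  obtain ⟨e0⟩ : Nonempty ((G ⧸ A) ≃ Fin n) :=
    ⟨Finite.equivFinOfCardEq (by rw [← Subgroup.index_eq_card, hidx])⟩
  let e : (G ⧸ A) ≃ Fin n := e0.trans (Equiv.swap (e0 ((1 : G) : G ⧸ A)) p)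
  have he : e ((1 : G) : G ⧸ A) = p := by simp [e]
  let φ : G →* Perm (Fin n) := (e.permCongrHom.toMonoidHom).comp (MulAction.toPermHom G (G ⧸ A))
  have hφ : ∀ g q, φ g (e q) = e (g • q) := fun g q => by simp [φ]
  have hker : φ.ker = ⊥ := by
    rcases IsSimpleGroup.eq_bot_or_eq_top_of_normal φ.ker inferInstance with h | h
    · exact h
    · exfalso
      have htop : A = ⊤ := eq_top_iff.2 fun g _ => by
        have h1 : φ g = 1 := MonoidHom.mem_ker.1 (h ▸ Subgroup.mem_top g)
        have h2 := hφ g ((1 : G) : G ⧸ A)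
        rw [h1, Perm.one_apply] at h2
        have h3 := e.injective h2
        simpa [QuotientGroup.eq] using h3
      rw [htop, Subgroup.index_top] at hidx
      omega
  have hinj : Function.Injective φ := (MonoidHom.ker_eq_bot_iff φ).1 hker
  let ψ : G ≃* φ.range := MonoidHom.ofInjective hinj
  refine ⟨φ.range, ⟨ψ⟩, ⟨fun a b => ?_⟩, ⟨MulEquiv.symm ?_⟩⟩
  · obtain ⟨g, hg⟩ := MulAction.exists_smul_eq G (e.symm a) (e.symm b)
    refine ⟨ψ g, ?_⟩
    show φ g a = b
    rw [← e.apply_symm_apply a, hφ, hg, e.apply_symm_apply]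
  · have hmem : ∀ g : G, ψ g ∈ MulAction.stabilizer φ.range p ↔ g ∈ A := fun g => by
      rw [MulAction.mem_stabilizer_iff]
      show φ g p = p ↔ _
      rw [← he, hφ, e.apply_eq_iff_eq]
      simp [QuotientGroup.eq]
    exact (ψ.subgroupMap A).trans (MulEquiv.subgroupCongr (Subgroup.ext fun h => by
      constructor
      · rintro ⟨g, hg, rfl⟩; exact (hmem g).2 hg
      · intro hh
        obtain ⟨g, rfl⟩ := ψ.surjective h
        exact ⟨g, (hmem g).1 hh, rfl⟩))

end H81.HNAlt
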