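import Cfsg.Agent.H81.HN.AltWords
import Cfsg.Agent.H81.HN.AltTwelve

/-!
A copy of `A₁₂` in the presented Harada–Norton group and the realisation of degree `1140000`,
modulo a single relation.
-/

set_option autoImplicit false
set_option maxRecDepth 100000
set_option maxHeartbeats 1000000

namespace H81.HNAlt

open Cfsg H81.HS2 H81.HNCover

/-- A word in the subgroup `<x, y, z>` as an element of the group. -/
def el {N0 : Subgroup Spor.HN} (M : Model N0) (w : List ℕ) : Spor.HN := (M.wordG w).1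

variable {N0 : Subgroup Spor.HN} (M : Model N0)

theorem el_append (v w : List ℕ) : el M (v ++ w) = el M v * el M w := by
  simp [el, Model.wordG]

theorem el_eq (hcard : Nat.card N0 = 177408000) {a b : List ℕ} (h : (a, b) ∈ nEqs) :
    el M a = el M b := by
  have e : M.wordG a = M.wordG b := M.rho_injective hcard (Equiv.ext fun i => Fin.ext (by
    rw [M.word_apply, M.word_apply]
    exact beq_iff_eq.1 (List.all_eq_true.1 (List.all_eq_true.1 nEqs_ok _ h) _
      (List.mem_range.2 i.isLt))))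
  simp [el, e]

/-- The relations of `t` and one more give a subgroup isomorphic to `A₁₂`. -/
theorem exists_altTwelve_of (hcard : Nat.card N0 = 177408000) (T : Spor.HN) (hT5 : T ^ 5 = 1)
    (hTx : (M.x : Spor.HN)⁻¹ * T * M.x * T ^ 2 = 1)
    (hTy : T⁻¹ * (M.y : Spor.HN)⁻¹ * T * M.y = 1)
    (hR : (el M (vW.getD 0 []) * T⁻¹ * el M (vW.getD 0 []) * T) ^ 2 = 1) :
    ∃ A : Subgroup Spor.HN, Nonempty (alternatingGroup (Fin 12) ≃* A) := by
  set x : Spor.HN := (M.x : Spor.HN) with hxdef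
  set y : Spor.HN := (M.y : Spor.HN) with hydef
  have cy : Commute T y := by
    have h := inv_mul_eq_one.1 (show (y * T)⁻¹ * (T * y) = 1 by
      rw [mul_inv_rev, ← mul_assoc]; exact hTy)
    exact h.symm
  have hx1 : x⁻¹ * T * x = (T ^ 2)⁻¹ := eq_inv_of_mul_eq_one_left hTx
  have cb : Commute T (x⁻¹ * y * x) := by
    have h1 : Commute (x⁻¹ * T * x) (x⁻¹ * y * x) := by
      show _ * _ = _ * _
      calc x⁻¹ * T * x * (x⁻¹ * y * x) = x⁻¹ * (T * y) * x := by group
        _ = x⁻¹ * (y * T) * x := by rw [cy.eq]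
        _ = x⁻¹ * y * x * (x⁻¹ * T * x) := by group
    rw [hx1] at h1
    have h2 : Commute ((T ^ 2) ^ 3) (x⁻¹ * y * x) := (Commute.inv_left_iff.1 h1).pow_left 3
    rwa [← pow_mul, show 2 * 3 = 5 + 1 from rfl, pow_succ, hT5, one_mul] at h2
  have cw : ∀ w : List ℕ, Commute T (el M (w.flatMap expand)) := by
    intro w
    induction w with
    | nil => simp [el, Model.wordG]
    | cons a w ih =>
      rw [List.flatMap_cons, el_append]
      refine Commute.mul_right ?_ ih
      match a with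
      | 0 => simpa [el, expand, Model.wordG, Model.letterG] using cy
      | 1 => simpa [el, expand, Model.wordG, Model.letterG] using cy.inv_right
      | 2 => simpa [el, expand, Model.wordG, Model.letterG, mul_assoc] using cb
      | _ + 3 =>
        have h := cb.inv_right
        rw [mul_inv_rev, mul_inv_rev, inv_inv] at h
        simpa [el, expand, Model.wordG, Model.letterG, mul_assoc] using h
  let v : ℕ → Spor.HN := fun i => el M (vW.getD i [])
  have h3 : ∀ l < 6, v l ^ 3 = 1 := fun l hl => by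
    have h := el_eq M hcard (a := vW.getD l [] ++ vW.getD l [] ++ vW.getD l []) (b := [])
      (by interval_cases l <;> decide +kernel)
    simpa [v, el_append, pow_succ, mul_assoc, show el M [] = 1 by simp [el, Model.wordG]] using h
  have hvv : ∀ i < 6, ∀ j < 6, i < j → (v i * v j) ^ 2 = 1 := fun i hi j hj hij => by
    have h := el_eq M hcard
      (a := vW.getD i [] ++ vW.getD j [] ++ vW.getD i [] ++ vW.getD j []) (b := []) (by
      interval_cases i <;> interval_cases j <;> first | omega | decide +kernel)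
    simpa [v, el_append, pow_two, mul_assoc, show el M [] = 1 by simp [el, Model.wordG]] using h
  have cv : ∀ i < 5, Commute T (v (i + 1)) := fun i hi => by
    have h := el_eq M hcard (a := vW.getD (i + 1) []) (b := (hW.getD i []).flatMap expand)
      (by interval_cases i <;> decide +kernel)
    show Commute T (el M _)
    rw [h]
    exact cw _
  set d : Spor.HN := el M dW with hddef
  have hd : v 0 * d = d * (v 0)⁻¹ := by
    have h := el_eq M hcard (a := vW.getD 0 [] ++ dW) (b := dW ++ vW.getD 0 [] ++ vW.getD 0 [])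
      (by decide +kernel)
    have e : (v 0)⁻¹ = v 0 * v 0 := inv_eq_of_mul_eq_one_left (by
      simpa [pow_succ, mul_assoc] using h3 0 (by omega))
    rw [e]
    simpa [v, el_append, mul_assoc] using h
  have hdT : d⁻¹ * T * d = (T ^ 2)⁻¹ := by
    have e : d = x * (v 5 * v 5) := by
      simp [hddef, dW, v, el, Model.wordG, Model.letterG, hxdef]
    have c : Commute ((T ^ 2)⁻¹) (v 5 * v 5) :=
      (((cv 4 (by omega)).mul_right (cv 4 (by omega))).pow_left 2).inv_left
    calc d⁻¹ * T * d = (v 5 * v 5)⁻¹ * (x⁻¹ * T * x) * (v 5 * v 5) := by rw [e]; group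
      _ = (T ^ 2)⁻¹ := by rw [hx1, mul_assoc, c.eq, inv_mul_cancel_left]
  have cj : ∀ (c a : Spor.HN) (n : ℕ), a ^ n = 1 → (c⁻¹ * a * c) ^ n = 1 := fun c a n h => by
    have e1 := conj_pow (i := n) (a := c⁻¹) (b := a)
    rw [inv_inv] at e1
    rw [e1, h, mul_one, inv_mul_cancel]
  set V := v 0 with hV
  -- the pairs `(V, T ^ -k * V * T ^ k)`
  have p1 : (V * (T⁻¹ * V * T)) ^ 2 = 1 := by
    rw [← mul_assoc, ← mul_assoc]; exact hR
  have p4 : (V * ((T ^ 4)⁻¹ * V * T ^ 4)) ^ 2 = 1 := by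
    have e4 : (T ^ 4)⁻¹ = T := inv_eq_of_mul_eq_one_left (by rw [← pow_succ', hT5])
    have e4' : T ^ 4 = T⁻¹ := by rw [← inv_inv (T ^ 4), e4]
    rw [e4, e4', show V * (T * V * T⁻¹) = (T⁻¹ * V⁻¹)⁻¹ * (V * (T⁻¹ * V * T)) * (T⁻¹ * V⁻¹) by group]
    exact cj _ _ 2 p1
  have p3 : (V * (T ^ 2 * V * (T ^ 2)⁻¹)) ^ 2 = 1 := by
    have hv' : d⁻¹ * V * d = V⁻¹ := by rw [mul_assoc, hd, inv_mul_cancel_left]
    have e : d⁻¹ * (V * (T⁻¹ * V * T)) * d = V⁻¹ * (T ^ 2 * V⁻¹ * (T ^ 2)⁻¹) := by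
      calc d⁻¹ * (V * (T⁻¹ * V * T)) * d
          = (d⁻¹ * V * d) * ((d⁻¹ * T * d)⁻¹ * (d⁻¹ * V * d) * (d⁻¹ * T * d)) := by group
        _ = _ := by rw [hdT, hv', inv_inv]
    have h := cj d _ 2 p1
    rw [e, ← inv_inj, ← inv_pow, inv_one] at h
    rw [show V * (T ^ 2 * V * (T ^ 2)⁻¹) =
      V * (V⁻¹ * (T ^ 2 * V⁻¹ * (T ^ 2)⁻¹))⁻¹ * V⁻¹ by group, conj_pow, h]
    group
  have p2 : (V * ((T ^ 2)⁻¹ * V * T ^ 2)) ^ 2 = 1 := by
    rw [show V * ((T ^ 2)⁻¹ * V * T ^ 2) =
      (V * T ^ 2)⁻¹ * (V * (T ^ 2 * V * (T ^ 2)⁻¹)) * (V * T ^ 2) by group]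
    exact cj _ _ 2 p3
  have p3' : (V * ((T ^ 3)⁻¹ * V * T ^ 3)) ^ 2 = 1 := by
    have e3 : (T ^ 3)⁻¹ = T ^ 2 := inv_eq_of_mul_eq_one_left (by rw [← pow_add, hT5])
    have e3' : T ^ 3 = (T ^ 2)⁻¹ := by rw [← inv_inv (T ^ 3), e3]
    rw [e3, e3']
    exact p3
  let W : ℕ → Spor.HN := fun j => (T ^ j)⁻¹ * V * T ^ j
  have hVW : ∀ k, 1 ≤ k → k ≤ 4 → (V * W k) ^ 2 = 1 := fun k h1 h4 => by
    interval_cases k
    · simpa [W] using p1
    · exact p2
    · exact p3'
    · exact p4
  have hWW : ∀ i j, i < j → j ≤ 4 → (W i * W j) ^ 2 = 1 := fun i j hij hj => by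
    obtain ⟨k, rfl⟩ := Nat.exists_eq_add_of_lt hij
    rw [show W i * W (i + k + 1) = (T ^ i)⁻¹ * (V * W (k + 1)) * T ^ i by
      simp only [W, show i + k + 1 = (k + 1) + i by omega, pow_add _ (k + 1) i]; group]
    exact cj _ _ 2 (hVW _ (by omega) (by omega))
  refine exists_altTwelve (fun l : Fin 10 =>
    if l.val < 5 then W l.val else v (l.val - 5 + 1)) ?_ ?_ ?_
  · intro l
    have := l.isLt
    by_cases hl : l.val < 5
    · rw [if_pos hl]; exact cj _ _ 3 (h3 0 (by omega))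
    · rw [if_neg hl]; exact h3 _ (by omega)
  · intro i j hij
    have hi := i.isLt
    have hj := j.isLt
    have hij' : i.val < j.val := hij
    by_cases hi5 : i.val < 5
    · rw [if_pos hi5]
      by_cases hj5 : j.val < 5
      · rw [if_pos hj5]; exact hWW _ _ hij' (by omega)
      rw [if_neg hj5]
      have c : Commute (T ^ i.val) (v (j.val - 5 + 1)) := (cv _ (by omega)).pow_left _
      rw [show W i.val * v (j.val - 5 + 1) =
        (T ^ i.val)⁻¹ * (V * v (j.val - 5 + 1)) * T ^ i.val by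
          simp only [W, mul_assoc]; rw [c.eq]]
      exact cj _ _ 2 (hvv 0 (by omega) _ (by omega) (by omega))
    · rw [if_neg hi5, if_neg (by omega : ¬ j.val < 5)]
      exact hvv _ (by omega) _ (by omega) (by omega)
  · show (T ^ 0)⁻¹ * V * T ^ 0 ≠ 1
    simp only [pow_zero, inv_one, one_mul, mul_one]
    intro h
    have h' : M.wordG (vW.getD 0 []) = 1 := Subtype.ext h
    have := M.word_apply (vW.getD 0 []) ⟨0, by norm_num⟩
    rw [h', map_one, Equiv.Perm.one_apply] at this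
    exact v0_ne_ok this.symm

/-- The degree `1140000` realisation, given simplicity, the order and one relation. -/
theorem realisation (hHN : IsHN Spor.HN) (hcard : Nat.card N0 = 177408000) (T : Spor.HN)
    (hT5 : T ^ 5 = 1) (hTx : (M.x : Spor.HN)⁻¹ * T * M.x * T ^ 2 = 1)
    (hTy : T⁻¹ * (M.y : Spor.HN)⁻¹ * T * M.y = 1)
    (hR : (el M (vW.getD 0 []) * T⁻¹ * el M (vW.getD 0 []) * T) ^ 2 = 1) :
    ∃ H : Subgroup (Equiv.Perm (Fin 1140000)), IsHN H ∧
      MulAction.IsPretransitive H (Fin 1140000) ∧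
      Nonempty (MulAction.stabilizer H (0 : Fin 1140000) ≃* alternatingGroup (Fin 12)) := by
  obtain ⟨hs, hc⟩ := hHN
  obtain ⟨A, ⟨a⟩⟩ := exists_altTwelve_of M hcard T hT5 hTx hTy hR
  have : Finite Spor.HN := Nat.finite_of_card_ne_zero (by rw [hc]; norm_num)
  have hA : Nat.card A = 239500800 := by
    rw [← Nat.card_congr a.toEquiv, nat_card_alternatingGroup]
    simp [Nat.factorial]
  have hidx : A.index = 1140000 := by
    have h := A.card_mul_index
    rw [hA, hc] at h
    omega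
  obtain ⟨H, ⟨f⟩, htr, ⟨st⟩⟩ :=
    exists_perm_realisation A 1140000 (by norm_num) hidx 0
  exact ⟨H, ⟨f.isSimpleGroup_congr.1 hs, (Nat.card_congr f.toEquiv.symm).trans hc⟩, htr,
    ⟨st.trans a.symm⟩⟩

end H81.HNAlt
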