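import Cfsg.Agent.H81.HN.Simple
import Cfsg.Agent.H26.SchurPerfect
import Cfsg.Agent.H97.Schur

/-!
The Schur multiplier of the presented Harada–Norton group is trivial: the subgroup `2.HS` has
trivial multiplier, so its generators have canonical lifts, and the relations force the others.
-/

set_option autoImplicit false
set_option maxRecDepth 100000
set_option maxHeartbeats 2000000

namespace H81.HNCover

open Cfsg H81.HS2
open scoped commutatorElement

/-- A word in `a = y` and `b = x⁻¹yx` with exponent sums zero whose value is `y`. -/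
def relW : List ℕ :=
  [0, 0, 2, 0, 3, 1, 3, 3, 1, 2, 2, 2, 2, 1, 3, 3, 1, 3, 0, 2]

/-- The letters of `relW` as words in the generators. -/
def expand : ℕ → List ℕ
  | 0 => [2]
  | 1 => [3]
  | 2 => [1, 2, 0]
  | _ => [1, 3, 0]

theorem relW_ok : (List.range 1408).all (fun i =>
    applyW (relW.flatMap expand) i == tab tY i) = true := by
  decide +kernel

theorem x_four_ok : (List.range 1408).all (fun i => applyW [0, 0, 0, 0] i == i) = true := by
  decide +kernel

/-- The value of a letter on two elements. -/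
def evL {Γ : Type*} [Group Γ] (A B : Γ) : ℕ → Γ
  | 0 => A
  | 1 => A⁻¹
  | 2 => B
  | _ => B⁻¹

/-- The exponent of a letter in the first element. -/
def expA : ℕ → ℤ
  | 0 => 1
  | 1 => -1
  | _ => 0

/-- The exponent of a letter in the second element. -/
def expB : ℕ → ℤ
  | 0 => 0
  | 1 => 0
  | 2 => 1
  | _ => -1

theorem ev_scale {Γ : Type*} [Group Γ] {A B r₁ r₂ : Γ} (h₁ : r₁ ∈ Subgroup.center Γ)
    (h₂ : r₂ ∈ Subgroup.center Γ) (w : List ℕ) :
    (w.map (evL (r₁ * A) (r₂ * B))).prod =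
      r₁ ^ (w.map expA).sum * r₂ ^ (w.map expB).sum * (w.map (evL A B)).prod := by
  induction w with
  | nil => simp
  | cons k w ih =>
    have hk : evL (r₁ * A) (r₂ * B) k = r₁ ^ expA k * r₂ ^ expB k * evL A B k := by
      match k with
      | 0 => simp [evL, expA, expB]
      | 1 => simp [evL, expA, expB, Subgroup.mem_center_iff.1 (inv_mem h₁) A⁻¹]
      | 2 => simp [evL, expA, expB]
      | _ + 3 => simp [evL, expA, expB, Subgroup.mem_center_iff.1 (inv_mem h₂) B⁻¹]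
    have c₁ : ∀ (m : ℤ) (g : Γ), g * r₁ ^ m = r₁ ^ m * g :=
      fun m g => Subgroup.mem_center_iff.1 (zpow_mem h₁ m) g
    have c₂ : ∀ (m : ℤ) (g : Γ), g * r₂ ^ m = r₂ ^ m * g :=
      fun m g => Subgroup.mem_center_iff.1 (zpow_mem h₂ m) g
    simp only [List.map_cons, List.prod_cons, List.sum_cons, hk, ih, zpow_add]
    have s₁ : ∀ (m : ℤ) (g h : Γ), g * (r₁ ^ m * h) = r₁ ^ m * (g * h) :=
      fun m g h => by rw [← mul_assoc, c₁, mul_assoc]
    have s₂ : ∀ (m : ℤ) (g h : Γ), g * (r₂ ^ m * h) = r₂ ^ m * (g * h) :=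
      fun m g h => by rw [← mul_assoc, c₂, mul_assoc]
    simp only [mul_assoc]
    rw [s₁ (w.map expA).sum (evL A B k), s₂ (w.map expB).sum (evL A B k),
      s₁ (w.map expA).sum (r₂ ^ expB k)]

namespace Model

theorem rho_injective {N : Type*} [Group N] (M : Model N) (hcard : Nat.card N = 177408000) :
    Function.Injective M.ρ := by
  rw [injective_iff_map_eq_one]
  intro n hn
  have hK : n ∈ M.K := M.mem_K.2 fun i => by rw [hn, Equiv.Perm.one_apply]
  have h : M.res ⟨n, hK⟩ = 1 := Equiv.ext fun u => ptEquiv.injective (Subtype.ext (by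
    exact (M.res_apply ⟨n, hK⟩ u).trans (by rw [hn]; rfl)))
  exact congrArg Subtype.val ((M.res_spec hcard).2 (h.trans (map_one _).symm))

end Model

variable {N0 : Subgroup Spor.HN} (M : Model N0)

theorem xy_mem : M.x ∈ M.K ∧ M.y ∈ M.K := by
  constructor <;> refine M.mem_K.2 fun i => ?_
  · rw [M.hx]; exact (spec i).2.2.2.2.2.2.2.1
  · rw [M.hy]; exact (spec i).2.2.2.2.2.2.2.2.1

/-- Every stem extension is trivial. -/
theorem ker_eq_bot (hcard : Nat.card N0 = 177408000)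
    (hx : (M.x : Spor.HN) = PresentedGroup.mk _ Spor.HN.x)
    (hy : (M.y : Spor.HN) = PresentedGroup.mk _ Spor.HN.y)
    (hz : (M.z : Spor.HN) = PresentedGroup.mk _ Spor.HN.z)
    {Γ : Type} [Group Γ] [Finite Γ] (σ : Γ →* Spor.HN) (hσ : IsStemExtension σ) : σ.ker = ⊥ := by
  classical
  have : M.K.Normal := Subgroup.normal_of_index_eq_two M.index_K
  have : Finite N0 := Nat.finite_of_card_ne_zero (by rw [hcard]; norm_num)
  have : Finite G0 := Nat.finite_of_card_ne_zero (by rw [card_G0]; norm_num)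
  have cen : ∀ {a : Γ}, σ a = 1 → ∀ g : Γ, g * a = a * g := fun {a} h g =>
    Subgroup.mem_center_iff.1 (hσ.2.1 (MonoidHom.mem_ker.2 h)) g
  -- the canonical lift of the double cover
  let ι : M.K →* Spor.HN := N0.subtype.comp M.K.subtype
  have hι : Function.Injective ι := fun a b h => Subtype.ext (Subtype.ext h)
  obtain ⟨η, hη, huniq⟩ : ∃ η : M.K →* Γ, (∀ k, σ (η k) = ι k) ∧
      ∀ f : M.K →* Γ, (∀ k, σ (f k) = ι k) → f = η := by
    let S : Subgroup Γ := ι.range.comap σ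
    let e := M.equiv hcard
    have hsurj : ∀ g : S, ∃ k : M.K, ι k = σ g.1 := fun g => g.2
    let τ : S →* G0 := MonoidHom.mk' (fun g => e (Classical.choose (hsurj g))) fun a b => by
      rw [← map_mul e]
      refine congrArg e (hι ?_)
      rw [map_mul ι, Classical.choose_spec (hsurj _), Classical.choose_spec (hsurj _),
        Classical.choose_spec (hsurj _), Subgroup.coe_mul, map_mul]
    have hτc : τ.ker ≤ Subgroup.center S := by
      intro g hg
      have h1 : Classical.choose (hsurj g) = 1 := e.map_eq_one_iff.1 hg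
      have h2 : σ g.1 = 1 := by rw [← Classical.choose_spec (hsurj g), h1, map_one]
      exact Subgroup.mem_center_iff.2 fun h => Subtype.ext (cen h2 h.1)
    have hτs : Function.Surjective τ := fun u => by
      obtain ⟨g, hg⟩ := hσ.1 (ι (e.symm u))
      refine ⟨⟨g, ⟨e.symm u, hg.symm⟩⟩, ?_⟩
      show e (Classical.choose (hsurj _)) = u
      rw [show Classical.choose (hsurj ⟨g, ⟨e.symm u, hg.symm⟩⟩) = e.symm u from
        hι ((Classical.choose_spec (hsurj ⟨g, ⟨e.symm u, hg.symm⟩⟩)).trans hg),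
        MulEquiv.apply_symm_apply]
    obtain ⟨s, hs⟩ := H26.exists_section_of_trivial perfect trivial_multiplier τ hτc hτs
    refine ⟨(S.subtype.comp s).comp e.toMonoidHom, fun k => ?_, fun f hf => ?_⟩
    · have h : τ (s (e k)) = e k := DFunLike.congr_fun hs (e k)
      have h' : Classical.choose (hsurj (s (e k))) = k := e.injective h
      show σ (s (e k)).1 = ι k
      rw [← Classical.choose_spec (hsurj (s (e k))), h']
    · -- two lifts differ by a homomorphism to the centre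
      set η := (S.subtype.comp s).comp e.toMonoidHom
      have hd : ∀ k, σ (f k * (η k)⁻¹) = 1 := fun k => by
        have h : τ (s (e k)) = e k := DFunLike.congr_fun hs (e k)
        have h' : Classical.choose (hsurj (s (e k))) = k := e.injective h
        have h'' : σ (η k) = ι k := by
          show σ (s (e k)).1 = ι k
          rw [← Classical.choose_spec (hsurj (s (e k))), h']
        rw [map_mul, map_inv, hf, h'', mul_inv_cancel]
      let d : M.K →* Subgroup.center Γ :=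
        MonoidHom.mk' (fun k => ⟨f k * (η k)⁻¹, Subgroup.mem_center_iff.2 (cen (hd k))⟩) fun a b => by
          refine Subtype.ext ?_
          show f (a * b) * (η (a * b))⁻¹ = f a * (η a)⁻¹ * (f b * (η b)⁻¹)
          rw [map_mul, map_mul, mul_inv_rev, cen (hd b) (f a * (η a)⁻¹)]
          calc f a * f b * ((η b)⁻¹ * (η a)⁻¹) = f a * (f b * (η b)⁻¹) * (η a)⁻¹ := by group
            _ = f b * (η b)⁻¹ * (f a * (η a)⁻¹) := by rw [cen (hd b) (f a)]; group
      have hker : d.ker = ⊤ := by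
        rw [eq_top_iff, ← M.perfect_K hcard, commutator_def, Subgroup.commutator_le]
        intro a _ b _
        rw [MonoidHom.mem_ker, map_commutatorElement, commutatorElement_eq_one_iff_mul_comm]
        exact Subtype.ext (Subgroup.mem_center_iff.1 (d b).2 (d a).1)
      refine MonoidHom.ext fun k => ?_
      have h1 : k ∈ d.ker := hker ▸ Subgroup.mem_top k
      have h2 : f k * (η k)⁻¹ = 1 := congrArg Subtype.val (MonoidHom.mem_ker.1 h1)
      exact mul_inv_eq_one.1 h2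
  let H0 := η.range
  have one_of : ∀ g ∈ H0, σ g = 1 → g = 1 := by
    rintro _ ⟨k, rfl⟩ h
    rw [hη] at h
    rw [hι (h.trans (map_one ι).symm), map_one]
  have conj_mem : ∀ G : Γ, σ G = M.z ∨ σ G = (M.z : Spor.HN)⁻¹ → ∀ g ∈ H0, G * g * G⁻¹ ∈ H0 := by
    intro G hG g hg
    obtain ⟨k, rfl⟩ := hg
    obtain ⟨n, hn⟩ : ∃ n : N0, σ G = n := hG.elim (fun h => ⟨_, h⟩) (fun h => ⟨M.z⁻¹, h⟩)
    let c : M.K →* M.K := MonoidHom.mk'
      (fun k => ⟨n * k.1 * n⁻¹, (inferInstance : M.K.Normal).conj_mem _ k.2 n⟩)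
      fun a b => Subtype.ext (by simp [mul_assoc])
    have e : ((MulAut.conj G⁻¹).toMonoidHom.comp η).comp c = η := huniq _ fun j => by
      show σ (G⁻¹ * η (c j) * (G⁻¹)⁻¹) = ι j
      rw [map_mul, map_mul, map_inv, map_inv, hη, map_inv, inv_inv, hn]
      simp [ι, c, mul_assoc]
    refine ⟨c k, ?_⟩
    conv_rhs => rw [← e]
    simp [mul_assoc]
  let π : FreeGroup Spor.HN.Gen →* Spor.HN :=
    (PresentedGroup.mk (Spor.coxRelators Spor.HN.edges ∪ {r | r ∈ Spor.HN.extra}))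
  set X : Γ := η ⟨M.x, (xy_mem M).1⟩ with hXdef
  set Y : Γ := η ⟨M.y, (xy_mem M).2⟩ with hYdef
  have hX : σ X = PresentedGroup.mk _ Spor.HN.x := (hη _).trans hx
  have hY : σ Y = PresentedGroup.mk _ Spor.HN.y := (hη _).trans hy
  have mX : X ∈ H0 := ⟨_, rfl⟩
  have mY : Y ∈ H0 := ⟨_, rfl⟩
  have rel : ∀ k (hk : k < Spor.HN.extra.length),
      (PresentedGroup.mk (Spor.coxRelators Spor.HN.edges ∪ {r | r ∈ Spor.HN.extra}))
        (Spor.HN.extra[k]) = 1 :=
    fun k _ => PresentedGroup.one_of_mem (Or.inr (List.getElem_mem _))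
  have X4 : X ^ 4 = 1 := by
    rw [hXdef, ← map_pow, show (⟨M.x, (xy_mem M).1⟩ : M.K) ^ 4 = 1 from Subtype.ext
      (M.rho_injective hcard (Equiv.ext fun i => Fin.ext (by
        rw [OneMemClass.coe_one, map_one, Equiv.Perm.one_apply, SubmonoidClass.coe_pow,
          show M.x ^ 4 = M.wordG [0, 0, 0, 0] from by simp [Model.wordG, Model.letterG, pow_succ, mul_assoc],
          M.word_apply]
        exact beq_iff_eq.1 (List.all_eq_true.1 x_four_ok _ (List.mem_range.2 i.isLt))))), map_one]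
  -- the relations in `X` and `Y`
  have r0 : Y ^ 6 = 1 := one_of _ (pow_mem mY 6) (by
    rw [map_pow, hY]; have h := rel 0 (by decide); simp [Spor.HN.extra] at h; exact h)
  have r1 : X ^ 2 * Y * X ^ 2 * Y⁻¹ = 1 :=
    one_of _ (mul_mem (mul_mem (mul_mem (pow_mem mX 2) mY) (pow_mem mX 2)) (inv_mem mY)) (by
      simp only [map_mul, map_pow, map_inv, hX, hY]
      have h := rel 1 (by decide); simp [Spor.HN.extra] at h; exact h)
  have r2 : (X⁻¹ * Y⁻¹ * X * Y) ^ 3 = 1 :=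
    one_of _ (pow_mem (mul_mem (mul_mem (mul_mem (inv_mem mX) (inv_mem mY)) mX) mY) 3) (by
      simp only [map_mul, map_pow, map_inv, hX, hY]
      have h := rel 2 (by decide); simp [Spor.HN.extra] at h; exact h)
  have r3 : (X⁻¹ * Y ^ 2 * X * Y ^ 3) ^ 3 = 1 :=
    one_of _ (pow_mem (mul_mem (mul_mem (mul_mem (inv_mem mX) (pow_mem mY 2)) mX) (pow_mem mY 3)) 3)
      (by
      simp only [map_mul, map_pow, map_inv, hX, hY]
      have h := rel 3 (by decide); simp [Spor.HN.extra] at h; exact h)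
  have r4 : (X * Y) ^ 8 = 1 := one_of _ (pow_mem (mul_mem mX mY) 8) (by
      simp only [map_mul, map_pow, map_inv, hX, hY]
      have h := rel 4 (by decide); simp [Spor.HN.extra] at h; exact h)
  have r5 : (X * Y * X * Y ^ 3) ^ 4 = 1 :=
    one_of _ (pow_mem (mul_mem (mul_mem (mul_mem mX mY) mX) (pow_mem mY 3)) 4) (by
      simp only [map_mul, map_pow, map_inv, hX, hY]
      have h := rel 5 (by decide); simp [Spor.HN.extra] at h; exact h)
  -- a lift of `t`
  obtain ⟨T₀, hT₀⟩ := hσ.1 (PresentedGroup.mk _ Spor.HN.t)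
  obtain ⟨T, hT, t5, tx⟩ : ∃ T : Γ, σ T = PresentedGroup.mk _ Spor.HN.t ∧ T ^ 5 = 1 ∧
      X⁻¹ * T * X * (T ^ 2) = 1 := by
    have hp : σ (T₀ ^ 5) = 1 := by
      rw [map_pow, hT₀]; have h := rel 10 (by decide); simp [Spor.HN.extra] at h; exact h
    have hq : σ (X⁻¹ * T₀ * X * T₀ ^ 2) = 1 := by
      simp only [map_mul, map_pow, map_inv, hX, hT₀]
      have h := rel 11 (by decide); simp [Spor.HN.extra] at h; exact h
    set p := T₀ ^ 5 with hpdef
    set q := X⁻¹ * T₀ * X * T₀ ^ 2 with hqdef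
    have cq : ∀ g, Commute g q := fun g => cen hq g
    have cp : ∀ g, Commute g p := fun g => cen hp g
    let φ : Γ →* Γ := (MulAut.conj X⁻¹).toMonoidHom
    have hφ : ∀ g, φ g = X⁻¹ * g * X := fun g => by simp [φ]
    have step : ∀ (i j : ℤ), φ (q ^ i * T₀ ^ j) = q ^ (i + j) * T₀ ^ (-2 * j) := by
      intro i j
      have h1 : φ q = q := by rw [hφ, mul_assoc, ← cq X, inv_mul_cancel_left]
      have h2 : φ T₀ = q * T₀ ^ (-2 : ℤ) := by
        rw [hφ, hqdef]; group
      rw [map_mul, map_zpow, map_zpow, h1, h2, ((cq (T₀ ^ (-2 : ℤ))).symm).mul_zpow, ← mul_assoc,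
        ← zpow_add, ← zpow_mul]
    have h4 : φ (φ (φ (φ T₀))) = q ^ (-5 : ℤ) * T₀ ^ (16 : ℤ) := by
      rw [show T₀ = q ^ (0 : ℤ) * T₀ ^ (1 : ℤ) by simp, step, step, step, step]
      norm_num
    have h4' : φ (φ (φ (φ T₀))) = T₀ := by
      simp only [hφ]
      calc _ = (X ^ 4)⁻¹ * T₀ * X ^ 4 := by simp [pow_succ, mul_assoc]
        _ = T₀ := by rw [X4]; group
    have hrel : p ^ (3 : ℤ) = q ^ (5 : ℤ) := by
      have h := h4.symm.trans h4'
      rw [show T₀ ^ (16 : ℤ) = p ^ (3 : ℤ) * T₀ by rw [hpdef]; group, ← mul_assoc, mul_eq_right] at h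
      calc p ^ (3 : ℤ) = q ^ (5 : ℤ) * (q ^ (-5 : ℤ) * p ^ (3 : ℤ)) := by group
        _ = q ^ (5 : ℤ) := by rw [h, mul_one]
    set a := q ^ (-2 : ℤ) * p with hadef
    have ha : σ a = 1 := by rw [map_mul, map_zpow, hq, hp, one_zpow, one_mul]
    have ca : ∀ g, Commute g a := fun g => cen ha g
    have ha5 : p * a ^ (5 : ℤ) = 1 := by
      rw [hadef, ((cp (q ^ (-2 : ℤ)))).mul_zpow, ← zpow_mul, ← mul_assoc,
        (cq p).zpow_right, mul_assoc, show p * p ^ (5 : ℤ) = p ^ (3 : ℤ) * p ^ (3 : ℤ) by group, hrel]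
      group
    have ha3 : q * a ^ (3 : ℤ) = 1 := by
      rw [hadef, ((cp (q ^ (-2 : ℤ)))).mul_zpow, ← zpow_mul, hrel]
      group
    refine ⟨T₀ * a, by rw [map_mul, ha, mul_one, hT₀], ?_, ?_⟩
    · rw [(ca T₀).mul_pow, ← zpow_natCast a]
      exact ha5
    · rw [(ca T₀).mul_pow]
      calc X⁻¹ * (T₀ * a) * X * (T₀ ^ 2 * a ^ 2)
          = X⁻¹ * T₀ * (a * (X * T₀ ^ 2)) * a ^ 2 := by group
        _ = X⁻¹ * T₀ * ((X * T₀ ^ 2) * a) * a ^ 2 := by rw [ca (X * T₀ ^ 2)]
        _ = q * a ^ (3 : ℤ) := by rw [hqdef]; group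
        _ = 1 := ha3
  have xTx : X * T * X⁻¹ = T ^ 2 := by
    have h1 : X⁻¹ * T * X = (T ^ 2)⁻¹ := eq_inv_of_mul_eq_one_left tx
    have h2 : X * (T ^ 2)⁻¹ * X⁻¹ = T := by rw [← h1]; group
    calc X * T * X⁻¹ = X * (((T ^ 2)⁻¹) ^ 2 * T ^ 5) * X⁻¹ := by group
      _ = X * ((T ^ 2)⁻¹) ^ 2 * X⁻¹ := by rw [t5, mul_one]
      _ = (X * (T ^ 2)⁻¹ * X⁻¹) ^ 2 := by rw [conj_pow]
      _ = T ^ 2 := by rw [h2]
  have rty : T⁻¹ * Y⁻¹ * T * Y = 1 := by
    have hr : σ ⁅T, Y⁆ = 1 := by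
      rw [map_commutatorElement, hT, hY, commutatorElement_eq_one_iff_mul_comm]
      have h : π (Spor.HN.t⁻¹ * Spor.HN.y⁻¹ * Spor.HN.t * Spor.HN.y) = 1 := rel 12 (by decide)
      simp only [π, map_mul, map_inv] at h
      exact (inv_mul_eq_one.1 (by rw [mul_inv_rev, ← mul_assoc]; exact h)).symm
    set r := ⁅T, Y⁆ with hrdef
    have hrc : r ∈ Subgroup.center Γ := Subgroup.mem_center_iff.2 (cen hr)
    set B := X⁻¹ * Y * X with hBdef
    have e1 : T * Y * T⁻¹ = r * Y := by rw [hrdef, commutatorElement_def]; group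
    have e2 : T * B * T⁻¹ = (r * r) * B := by
      calc T * B * T⁻¹ = X⁻¹ * ((X * T * X⁻¹) * Y * (X * T * X⁻¹)⁻¹) * X := by rw [hBdef]; group
        _ = X⁻¹ * (T * (T * Y * T⁻¹) * T⁻¹) * X := by rw [xTx]; simp [pow_succ, mul_assoc]
        _ = X⁻¹ * ((r * r) * Y) * X := by
          rw [e1, ← mul_assoc T r, cen hr T]
          calc _ = X⁻¹ * (r * (T * Y * T⁻¹)) * X := by group
            _ = _ := by rw [e1]; group
        _ = (r * r) * B := by
          rw [hBdef, ← mul_assoc X⁻¹ (r * r),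
            Subgroup.mem_center_iff.1 (mul_mem hrc hrc) X⁻¹]
          group
    have hW : (relW.map (evL Y B)).prod = Y := by
      let w : M.K := ((⟨M.x, (xy_mem M).1⟩ : M.K)⁻¹ * ⟨M.y, (xy_mem M).2⟩ * ⟨M.x, (xy_mem M).1⟩)
      have hev : ∀ k, evL Y B k = η (evL ⟨M.y, (xy_mem M).2⟩ w k) := fun k => by
        match k with
        | 0 => simp [evL, Y]
        | 1 => simp [evL, Y]
        | 2 => simp [evL, B, X, Y, w]
        | _ + 3 => simp [evL, B, X, Y, w]
      rw [show relW.map (evL Y B) = (relW.map (evL ⟨M.y, (xy_mem M).2⟩ w)).map η from by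
        rw [List.map_map]; exact List.map_congr_left fun k _ => hev k, ← map_list_prod, hYdef]
      refine congrArg η (Subtype.ext (M.rho_injective hcard (Equiv.ext fun i => Fin.ext ?_)))
      rw [show ((relW.map (evL ⟨M.y, (xy_mem M).2⟩ w)).prod : M.K).1 = M.wordG (relW.flatMap expand)
        from by simp [relW, expand, Model.wordG, Model.letterG, evL, w, mul_assoc], M.word_apply, M.hy]
      exact beq_iff_eq.1 (List.all_eq_true.1 relW_ok _ (List.mem_range.2 i.isLt))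
    have key := congrArg (MulAut.conj T) hW
    rw [map_list_prod, List.map_map] at key
    rw [show (relW.map ((MulAut.conj T) ∘ evL Y B)) = relW.map (evL (r * Y) ((r * r) * B)) from
      List.map_congr_left fun k _ => by
        match k with
        | 0 => simp [evL, e1]
        | 1 => simp only [Function.comp, evL, map_inv, MulAut.conj_apply, e1]
        | 2 => simp [evL, e2]
        | _ + 3 => simp only [Function.comp, evL, map_inv, MulAut.conj_apply, e2],
      ev_scale hrc (mul_mem hrc hrc), hW,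
      show (relW.map expA).sum = 0 from by decide, show (relW.map expB).sum = 0 from by decide,
      zpow_zero, zpow_zero, one_mul, one_mul, MulAut.conj_apply] at key
    calc T⁻¹ * Y⁻¹ * T * Y = T⁻¹ * (Y⁻¹ * (T * Y * T⁻¹)) * T := by group
      _ = 1 := by rw [← key]; group
  -- a lift of `z`
  have zrel : ∀ G : Γ, σ G = M.z →
      G * X * G * X = G * G ∧
      G⁻¹ * (Y * X * Y * X * Y ^ 2 * X * Y⁻¹)⁻¹ * G * (Y * X * Y * X * Y ^ 2 * X * Y⁻¹) *
        (X ^ 2)⁻¹ = 1 ∧
      (G * G = 1 → G * ((((Y ^ 3) * X * Y * X * Y)⁻¹ * G * ((Y ^ 3) * X * Y * X * Y)) * X) ^ 3 = 1) := by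
    intro G hG
    have hG' : σ G = PresentedGroup.mk _ Spor.HN.z := hG.trans hz
    have hGi : σ G⁻¹ = (M.z : Spor.HN)⁻¹ := by rw [map_inv, hG]
    have hc : σ (G * G) = 1 := by
      rw [map_mul, hG']; have h := rel 6 (by decide); simp [Spor.HN.extra, pow_two] at h; exact h
    refine ⟨?_, ?_, fun h1 => ?_⟩
    · have h : G * X * G⁻¹ * X = 1 := one_of _ (mul_mem (conj_mem G (Or.inl hG) X mX) mX) (by
        have hsq : σ G * σ G = 1 := by rw [← map_mul, hc]
        rw [map_mul, map_mul, map_mul, map_inv, inv_eq_of_mul_eq_one_left hsq, hG', hX]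
        have h := rel 7 (by decide); simp [Spor.HN.extra, pow_two, ← mul_assoc] at h; exact h)
      calc G * X * G * X = G * X * G⁻¹ * ((G * G) * X) := by group
        _ = G * X * G⁻¹ * (X * (G * G)) := by rw [cen hc X]
        _ = G * G := by rw [← mul_assoc, h, one_mul]
    · set w := Y * X * Y * X * Y ^ 2 * X * Y⁻¹ with hw
      have mw : w ∈ H0 := mul_mem (mul_mem (mul_mem (mul_mem (mul_mem (mul_mem mY mX) mY) mX)
        (pow_mem mY 2)) mX) (inv_mem mY)
      have m1 : G⁻¹ * w⁻¹ * G ∈ H0 := by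
        simpa using conj_mem G⁻¹ (Or.inr hGi) w⁻¹ (inv_mem mw)
      refine one_of _ (mul_mem (mul_mem m1 mw) (inv_mem (pow_mem mX 2))) ?_
      simp only [hw, map_mul, map_inv, map_pow, hX, hY, hG']
      have h : π (Spor.HN.z⁻¹ *
          (Spor.HN.y * Spor.HN.x * Spor.HN.y * Spor.HN.x * Spor.HN.y ^ 2 * Spor.HN.x * Spor.HN.y⁻¹)⁻¹ *
          Spor.HN.z *
          (Spor.HN.y * Spor.HN.x * Spor.HN.y * Spor.HN.x * Spor.HN.y ^ 2 * Spor.HN.x * Spor.HN.y⁻¹) *
          (Spor.HN.x ^ 2)⁻¹) = 1 := rel 8 (by decide)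
      simpa only [π, map_mul, map_inv, map_pow] using h
    · set v := (Y ^ 3) * X * Y * X * Y with hv
      have mv : v ∈ H0 := mul_mem (mul_mem (mul_mem (mul_mem (pow_mem mY 3) mX) mY) mX) mY
      have gi : G⁻¹ = G := inv_eq_of_mul_eq_one_left h1
      have m1 : G * v⁻¹ * G⁻¹ ∈ H0 := conj_mem G (Or.inl hG) _ (inv_mem mv)
      set k1 := G * v⁻¹ * G⁻¹ * v * X with hk1
      have mk1 : k1 ∈ H0 := mul_mem (mul_mem m1 mv) mX
      have e : v⁻¹ * G * v * X = G * k1 := by
        rw [hk1]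
        calc v⁻¹ * G * v * X = (G * G) * (v⁻¹ * G * v * X) := by rw [h1, one_mul]
          _ = G * (G * v⁻¹ * G * v * X) := by group
          _ = G * (G * v⁻¹ * G⁻¹ * v * X) := by rw [gi]
      have e2 : G * (G * k1) ^ 3 = k1 * (G * k1 * G⁻¹) * k1 := by
        calc G * (G * k1) ^ 3 = (G * G) * (k1 * (G * k1 * G) * k1) := by simp [pow_succ, mul_assoc]
          _ = k1 * (G * k1 * G⁻¹) * k1 := by rw [h1, one_mul, gi]
      refine one_of _ ?_ ?_
      · rw [e, e2]
        exact mul_mem (mul_mem mk1 (conj_mem G (Or.inl hG) _ mk1)) mk1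
      · simp only [hv, map_mul, map_inv, map_pow, hX, hY, hG']
        have h : π (Spor.HN.z * ((Spor.HN.y ^ 3 * Spor.HN.x * Spor.HN.y * Spor.HN.x * Spor.HN.y)⁻¹ *
            Spor.HN.z * (Spor.HN.y ^ 3 * Spor.HN.x * Spor.HN.y * Spor.HN.x * Spor.HN.y) *
            Spor.HN.x) ^ 3) = 1 := rel 9 (by decide)
        simpa only [π, map_mul, map_inv, map_pow] using h
  obtain ⟨Z₀, hZ₀⟩ := hσ.1 (M.z : Spor.HN)
  obtain ⟨Z, hZ, z2, zt⟩ : ∃ Z : Γ, σ Z = M.z ∧ Z ^ 2 = 1 ∧ (Z * T) ^ 3 = 1 := by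
    have hc : σ (Z₀ * Z₀) = 1 := by
      rw [map_mul, hZ₀, hz]; have h := rel 6 (by decide); simp [Spor.HN.extra, pow_two] at h; exact h
    have hs : σ ((Z₀ * T) ^ 3) = 1 := by
      rw [map_pow, map_mul, hZ₀, hz, hT]; have h := rel 13 (by decide); simp [Spor.HN.extra] at h; exact h
    set c := Z₀ * Z₀ with hcdef
    set s := (Z₀ * T) ^ 3 with hsdef
    obtain ⟨hzx, -, -⟩ := zrel Z₀ hZ₀
    have hxzx : X * Z₀ * X = Z₀ := by
      calc X * Z₀ * X = Z₀⁻¹ * (Z₀ * X * Z₀ * X) := by group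
        _ = Z₀ := by rw [hzx]; group
    have hU : X ^ 2 * Z₀ * (X ^ 2)⁻¹ = Z₀ := by
      calc X ^ 2 * Z₀ * (X ^ 2)⁻¹ = X * (X * Z₀ * X) * X * (X ^ 4)⁻¹ := by simp [pow_succ, mul_assoc]
        _ = Z₀ := by rw [hxzx, hxzx, X4, inv_one, mul_one]
    have hUT : X ^ 2 * T * (X ^ 2)⁻¹ = T⁻¹ := by
      calc X ^ 2 * T * (X ^ 2)⁻¹ = X * (X * T * X⁻¹) * X⁻¹ := by simp [pow_succ, mul_assoc]
        _ = X * T ^ 2 * X⁻¹ := by rw [xTx]
        _ = (X * T * X⁻¹) ^ 2 := by rw [conj_pow]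
        _ = T⁻¹ * T ^ 5 := by rw [xTx]; group
        _ = T⁻¹ := by rw [t5, mul_one]
    have hs' : (Z₀ * T⁻¹) ^ 3 = s := by
      calc (Z₀ * T⁻¹) ^ 3 = (X ^ 2 * Z₀ * (X ^ 2)⁻¹ * (X ^ 2 * T * (X ^ 2)⁻¹)) ^ 3 := by
            rw [hU, hUT]
        _ = (X ^ 2 * (Z₀ * T) * (X ^ 2)⁻¹) ^ 3 := by group
        _ = X ^ 2 * s * (X ^ 2)⁻¹ := by rw [conj_pow]
        _ = s := by rw [cen hs (X ^ 2)]; group
    have hTZ : (T * Z₀) ^ 3 = s := by
      calc (T * Z₀) ^ 3 = Z₀⁻¹ * s * Z₀ := by rw [hsdef]; simp [pow_succ, mul_assoc]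
        _ = s := by rw [cen hs Z₀⁻¹]; group
    have hcs : s * s = c * c * c := by
      have hzi : Z₀⁻¹ = Z₀ * c⁻¹ := by rw [hcdef]; group
      have hci : σ c⁻¹ = 1 := by rw [map_inv, hc, inv_one]
      have e : (T * Z₀⁻¹) ^ 3 = s⁻¹ := by rw [← hs', ← inv_pow, mul_inv_rev, inv_inv]
      rw [hzi, ← mul_assoc, Commute.mul_pow (cen hci (T * Z₀)), hTZ] at e
      calc s * s = s * (c⁻¹ ^ 3)⁻¹ * ((c⁻¹ ^ 3) * s) := by group
        _ = s * (c⁻¹ ^ 3)⁻¹ * (s * (c⁻¹ ^ 3)) := by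
          rw [cen (show σ (c⁻¹ ^ 3) = 1 by rw [map_pow, hci, one_pow]) s]
        _ = s * (c⁻¹ ^ 3)⁻¹ * s⁻¹ := by rw [e]
        _ = c * c * c := by
          rw [cen (show σ ((c⁻¹ ^ 3)⁻¹) = 1 by rw [map_inv, map_pow, hci, one_pow, inv_one]) s]
          simp [pow_succ, mul_assoc]
    set b := c * s⁻¹ with hbdef
    have hb : σ b = 1 := by rw [map_mul, map_inv, hc, hs, inv_one, one_mul]
    have cs : Commute c s⁻¹ := (cen hc s⁻¹).symm
    refine ⟨Z₀ * b, by rw [map_mul, hb, mul_one, hZ₀], ?_, ?_⟩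
    · rw [Commute.mul_pow (cen hb Z₀), hbdef, cs.mul_pow, inv_pow, pow_two s, hcs, pow_two Z₀,
        ← hcdef]
      group
    · rw [mul_assoc, ← cen hb T, ← mul_assoc, Commute.mul_pow (cen hb (Z₀ * T)), ← hsdef, hbdef,
        cs.mul_pow]
      calc s * (c ^ 3 * s⁻¹ ^ 3) = s * ((s * s) * s⁻¹ ^ 3) := by
            rw [hcs, pow_succ c 2, pow_two]
        _ = 1 := by group
  obtain ⟨hzx, r8, r9⟩ := zrel Z hZ
  rw [pow_two] at z2
  have r7 : (Z * X) ^ 2 = 1 := by rw [pow_two, ← mul_assoc, hzx, z2]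
  -- the section
  let f : Spor.HN.Gen → Γ
    | .x => X
    | .y => Y
    | .z => Z
    | .t => T
  have hrels : ∀ r ∈ (Spor.coxRelators Spor.HN.edges ∪ {r | r ∈ Spor.HN.extra}),
      FreeGroup.lift f r = 1 := by
    rintro r (⟨a, ha, -⟩ | hr)
    · simp [Spor.coxNodes, Spor.HN.edges] at ha
    · simp only [Set.mem_setOf_eq, Spor.HN.extra, List.mem_cons, List.not_mem_nil, or_false] at hr
      rcases hr with rfl | rfl | rfl | rfl | rfl | rfl | rfl | rfl | rfl | rfl | rfl | rfl | rfl | rfl <;>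
        simp only [map_mul, map_pow, map_inv, FreeGroup.lift_apply_of, f]
      all_goals first | assumption | exact r9 z2 | simpa [pow_two] using z2
  let sec : Spor.HN →* Γ := PresentedGroup.toGroup hrels
  have hsec : σ.comp sec = MonoidHom.id Spor.HN := PresentedGroup.ext fun a => by
    show σ (sec (PresentedGroup.of a)) = _
    rw [PresentedGroup.toGroup.of]
    cases a <;> simp [f, hX, hY, hZ, hz, hT] <;> rfl
  have hsurj := H26.surjective_of_stem hσ Function.surjective_id hsec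
  rw [eq_bot_iff]
  intro g hg
  obtain ⟨h, rfl⟩ := hsurj g
  have : h = 1 := by
    have e := DFunLike.congr_fun hsec h
    simpa [MonoidHom.mem_ker.1 hg] using e.symm
  simp [this]

/-- The Schur multiplier of the presented Harada–Norton group is trivial, given that it is finite
and that `<x, y, z>` carries the 1408-point model of order `177408000`. -/
theorem multiplier [Finite Spor.HN] (hcard : Nat.card N0 = 177408000)
    (hx : (M.x : Spor.HN) = PresentedGroup.mk _ Spor.HN.x)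
    (hy : (M.y : Spor.HN) = PresentedGroup.mk _ Spor.HN.y)
    (hz : (M.z : Spor.HN) = PresentedGroup.mk _ Spor.HN.z) :
    HasCyclicSchurMultiplier Spor.HN 1 :=
  H97.hasTrivialMultiplier fun _ _ _ σ hσ => ker_eq_bot M hcard hx hy hz σ hσ

end H81.HNCover

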