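import Cfsg.Agent.H77.HN.Index
import Cfsg.Agent.H81.HN.Multiplier

/-!
The presented Harada–Norton group, given the bound on the group on `x, y, z`: order, simplicity,
the double cover of `HS` inside `<x, y, z>`, and the multiplier.
-/

set_option autoImplicit false
set_option maxRecDepth 100000

namespace H81.HNGlue

open Cfsg H77.HN
open Data (cert)

/-- Words carrying the point 0 to the other points of the base. -/
def baseWords : List (List ℕ) :=
  [[], [0, 1, 3, 0, 4, 4, 0, 1], [0, 1, 3, 3, 3, 0, 1, 4, 0, 4], [0, 3, 3, 0, 4, 0, 4, 4, 2, 3]]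

theorem base_ok : ((List.range 4).all fun k =>
    Nat.beq (runK cert.T (baseWords.getD k []) 0) (Data.base.getD k 0)) = true ∧
      Data.base.length = 4 := by
  decide +kernel

theorem sg_one_ok : ((cert.sg 1).all fun l => Nat.beq (cert.T l 0) 0) = true ∧ 1 < cert.r := by
  decide +kernel

theorem tables_eq : ((List.range 1408).all fun i =>
    Nat.beq (cert.T 2 i) (H81.HNCover.tab H81.HNCover.tX i) &&
    Nat.beq (cert.T 4 i) (H81.HNCover.tab H81.HNCover.tY i) &&
    Nat.beq (cert.T 0 i) (H81.HNCover.tab H81.HNCover.tZ i)) = true := by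
  decide +kernel

variable (hA : XYZBound)

theorem stab_one_le : (setting hA).stab 1 ≤ (setting hA).Hsub := by
  rw [Setting.stab, Subgroup.closure_le]
  rintro _ ⟨l, hl, rfl⟩
  have h := List.all_eq_true.1 sg_one_ok.1 l hl
  rw [Nat.beq_eq] at h
  exact Rep.mem_fixPt _ |>.2 (Fin.ext ((rep_spec l _).trans h))

/-- An element fixing a point of the second orbit fixes the corresponding one of the 1408 points. -/
theorem fix_of_act {n a : N0}
    (h : (setting hA).act n ((setting hA).pt 1 sg_one_ok.2 a) = (setting hA).pt 1 sg_one_ok.2 a) :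
    φ0 n (φ0 a ⟨0, by norm_num⟩) = φ0 a ⟨0, by norm_num⟩ := by
  have h1 : φ0 (a⁻¹ * n * a) ⟨0, by norm_num⟩ = ⟨0, by norm_num⟩ :=
    stab_one_le hA (((setting hA).act_pt_fix sg_one_ok.2).1 h)
  rw [mul_assoc, map_mul, map_inv, Equiv.Perm.mul_apply, Equiv.Perm.inv_eq_iff_eq] at h1
  rw [map_mul, Equiv.Perm.mul_apply] at h1
  exact h1

theorem eq_one_of_act {n : N0} (h : ∀ x, (setting hA).act n x = x) : n = 1 := by
  refine ((exact_facts hA).2.2).2 n fun p hp => ?_
  obtain ⟨k, hk, hk'⟩ := List.getElem_of_mem hp
  have hk4 : k < 4 := hk.trans_eq base_ok.2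
  have hb := List.all_eq_true.1 base_ok.1 k (List.mem_range.2 hk4)
  rw [Nat.beq_eq, runK_eq, List.getD_eq_getElem _ _ hk, hk'] at hb
  have e : φ0 (evw gen (baseWords.getD k [])) ⟨0, by norm_num⟩ = p :=
    Fin.ext ((rep.evw_apply _ _).trans hb)
  rw [← e]
  exact fix_of_act hA (h _)

include hA in
theorem iota_injective : Function.Injective iota := by
  rw [injective_iff_map_eq_one]
  intro n hn
  refine eq_one_of_act hA fun x => ?_
  have := DFunLike.congr_fun ((psi_iota hA n).symm.trans (by rw [hn, map_one])) x
  exact this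

include hA in
theorem card_N0 : Nat.card N0 = 177408000 := (exact_facts hA).1

include hA in
theorem card_range : Nat.card iota.range = 177408000 := by
  rw [← Nat.card_congr (MonoidHom.ofInjective (iota_injective hA)).toEquiv, card_N0 hA]

theorem card_HN (hA : XYZBound) : Nat.card Spor.HN = 273030912000000 := by
  rw [← Subgroup.card_mul_index iota.range, card_range hA, index_range hA]

theorem finite_HN (hA : XYZBound) : Finite Spor.HN :=
  Nat.finite_of_card_ne_zero (by rw [card_HN hA]; norm_num)

theorem toCos_act' (n : N0) (x : (setting hA).Pts) :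
    (amalgam hA).toCos Data.treeList ((setting hA).act n x) =
      iota n • (amalgam hA).toCos Data.treeList x := by
  obtain ⟨K, hK, hd⟩ := valid_done hA
  exact (amalgam hA).toCos_act hK hd n x

theorem toCos_zero :
    (amalgam hA).toCos Data.treeList ((setting hA).pt 0 (r_pos hA) 1) = QuotientGroup.mk 1 := by
  obtain ⟨K, hK, hd⟩ := valid_done hA
  rw [(amalgam hA).toCos_pt hK hd, map_one, one_smul, Amalgam.q_zero]

/-- The group `<x, y, z>` with its action on 1408 points. -/
noncomputable def model : H81.HNCover.Model iota.range :=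
  let e := MonoidHom.ofInjective (iota_injective hA)
  { x := e n0x
    y := e n0y
    z := e n0z
    gen := by
      have h : ({e n0x, e n0y, e n0z} : Set iota.range) =
          e.toMonoidHom '' ({n0x, n0y, n0z} : Set N0) := by
        simp [Set.image_insert_eq]
      rw [h, ← MonoidHom.map_closure, n0_closure]
      exact Subgroup.map_top_of_surjective e.toMonoidHom e.surjective
    ρ := φ0.comp e.symm.toMonoidHom
    hx := fun i => by
      have h := List.all_eq_true.1 tables_eq i.val (List.mem_range.2 i.isLt)
      simp only [Bool.and_eq_true, Nat.beq_eq] at h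
      simp only [MonoidHom.coe_comp, MulEquiv.coe_toMonoidHom, Function.comp_apply,
        MulEquiv.symm_apply_apply]
      rw [show n0x = gen 2 by rw [gen_low (by norm_num)]; rfl]
      exact (rep_spec _ i).trans h.1.1
    hy := fun i => by
      have h := List.all_eq_true.1 tables_eq i.val (List.mem_range.2 i.isLt)
      simp only [Bool.and_eq_true, Nat.beq_eq] at h
      simp only [MonoidHom.coe_comp, MulEquiv.coe_toMonoidHom, Function.comp_apply,
        MulEquiv.symm_apply_apply]
      rw [show n0y = gen 4 by rw [gen_low (by norm_num)]; rfl]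
      exact (rep_spec _ i).trans h.1.2
    hz := fun i => by
      have h := List.all_eq_true.1 tables_eq i.val (List.mem_range.2 i.isLt)
      simp only [Bool.and_eq_true, Nat.beq_eq] at h
      simp only [MonoidHom.coe_comp, MulEquiv.coe_toMonoidHom, Function.comp_apply,
        MulEquiv.symm_apply_apply]
      have hz : n0z = gen 0 := by
        rw [gen_low (by norm_num)]
        have h2 : n0z * n0z = 1 := by rw [← sq]; exact n0_rel.z_two
        exact (inv_eq_of_mul_eq_one_left h2).symm
      rw [hz]
      exact (rep_spec _ i).trans h.2 }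

theorem model_coe :
    ((model hA).x : Spor.HN) = PresentedGroup.mk _ Spor.HN.x ∧
    ((model hA).y : Spor.HN) = PresentedGroup.mk _ Spor.HN.y ∧
    ((model hA).z : Spor.HN) = PresentedGroup.mk _ Spor.HN.z :=
  ⟨iota_x, iota_y, iota_z⟩

/-- The orbit number in the other numbering. -/
def relabel : Fin 9 → Fin 9 := ![0, 1, 4, 2, 5, 7, 8, 6, 3]

/-- The inverse numbering. -/
def relabelInv : Fin 9 → Fin 9 := ![0, 1, 3, 8, 2, 4, 7, 5, 6]

theorem relabel_ok : (∀ i, relabelInv (relabel i) = i) ∧ (∀ i, relabel (relabelInv i) = i) ∧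
    ∀ i, orbSizes.getD (relabelInv i : Fin 9).val 0 = H81.HNCover.orbitSize i := by
  decide +kernel

theorem simple (hA : XYZBound) : IsSimpleGroup Spor.HN := by
  classical
  haveI := n0_fin hA
  let e := Equiv.ofBijective _ (toCos_bijective hA)
  have he : ∀ x, e x = (amalgam hA).toCos Data.treeList x := fun _ => rfl
  let f : Spor.HN ⧸ iota.range → Fin 9 := fun a => relabel (e.symm a).1
  refine H81.HNCover.simple_of_action iota.range (model hA) (card_range hA) (index_range hA) ?_
    H81.HNCover.perfect_HN f ?_ ?_ ?_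
  · rw [eq_bot_iff]
    intro g hg
    obtain ⟨n, rfl⟩ := Subgroup.normalCore_le _ hg
    rw [Subgroup.normalCore_eq_ker, MonoidHom.mem_ker] at hg
    have h1 : n = 1 := eq_one_of_act hA fun x => e.injective (by
      rw [he, toCos_act', ← he]
      exact DFunLike.congr_fun hg (e x))
    rw [h1, map_one]
    exact one_mem _
  · have h0 : e.symm (QuotientGroup.mk 1) = (setting hA).pt 0 (r_pos hA) 1 :=
      e.symm_apply_eq.2 (toCos_zero hA).symm
    show relabel (e.symm (QuotientGroup.mk 1)).1 = 0
    exact (congrArg (fun x : (setting hA).Pts => relabel x.1) h0).trans rfl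
  · intro i
    rw [← relabel_ok.2.2 i, ← card_orbit hA (relabelInv i)]
    let d : Spor.HN ⧸ iota.range ≃ (Σ j : Fin 9, N0 ⧸ (setting hA).stab j) := e.symm
    refine Nat.card_congr ((Equiv.subtypeEquiv d (q := fun x => x.1 = relabelInv i) fun a => ?_).trans
      (Equiv.sigmaSubtype (β := fun j : Fin 9 => N0 ⧸ (setting hA).stab j) (relabelInv i)))
    constructor
    · intro h
      have h' := congrArg relabelInv h
      exact (relabel_ok.1 _).symm.trans h'
    · intro h
      exact (congrArg relabel h).trans (relabel_ok.2.1 i)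
  · intro a b hab
    obtain ⟨⟨i, x⟩, rfl⟩ := e.surjective a
    obtain ⟨⟨j, y⟩, rfl⟩ := e.surjective b
    simp only [f, Equiv.symm_apply_apply] at hab
    have hij : i = j := (relabel_ok.1 i).symm.trans ((congrArg relabelInv hab).trans (relabel_ok.1 j))
    subst hij
    obtain ⟨n, hn⟩ := MulAction.exists_smul_eq N0 x y
    refine ⟨iota n, ⟨n, rfl⟩, ?_⟩
    have h1 := toCos_act' hA n (⟨i, x⟩ : (setting hA).Pts)
    have h2 : (setting hA).act n ⟨i, x⟩ = (⟨i, y⟩ : (setting hA).Pts) := by
      show (⟨i, n • x⟩ : (setting hA).Pts) = ⟨i, y⟩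
      rw [hn]
    exact h1.symm.trans (congrArg _ h2)

theorem isHN (hA : XYZBound) : IsHN Spor.HN := ⟨simple hA, card_HN hA⟩

theorem multiplier (hA : XYZBound) : HasCyclicSchurMultiplier Spor.HN 1 :=
  haveI := finite_HN hA
  H81.HNCover.multiplier (model hA) (card_range hA) (model_coe hA).1 (model_coe hA).2.1
    (model_coe hA).2.2

end H81.HNGlue
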