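import Cfsg.Agent.H81.HN.AltWitness
import Cfsg.Agent.H81.HN.AltRel
import Cfsg.Agent.H81.HN.Glue
import Cfsg.Agent.H77.HN.Facts

/-!
The last relation of the copy of `A₁₂` read off the action on the cosets, and the realisation of
the Harada–Norton group on `1140000` points.
-/

set_option autoImplicit false
set_option maxRecDepth 100000
set_option maxHeartbeats 1000000

namespace H81.HNAlt

open Cfsg H77.HN
open Data (cert)

/-- Letters of the certificate for the letters of the word model. -/
def conv : ℕ → ℕ
  | 0 => 2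
  | 1 => 1
  | 2 => 4
  | 3 => 3
  | _ => 0

theorem relA_ok : relA =
    let v := ((vW.getD 0 []).map conv).reverse
    ([5, 5, 5, 5] ++ v ++ [5] ++ v) ++ ([5, 5, 5, 5] ++ v ++ [5] ++ v) := by
  decide +kernel

theorem relA_no6 : 6 ∉ relA ∧ ∀ l ∈ relA, l < 6 := by
  decide +kernel

theorem reps_ok : reps = loops1.map fun p => runK cert.T (unpack p.1) 0 := by
  decide +kernel

variable (hA : XYZBound)

theorem el_conv (w : List ℕ) :
    el (H81.HNGlue.model hA) w = evw lettHN ((w.map conv).reverse) := by
  have g : ∀ c, ((H81.HNGlue.model hA).letterG c : Spor.HN) = lettHN (conv c) := by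
    intro c
    have h2 : n0z * n0z = 1 := by rw [← sq]; exact n0_rel.z_two
    match c with
    | 0 => simp [conv, lettHN, gen_low, g5, H81.HNCover.Model.letterG, H81.HNGlue.model,
        MonoidHom.ofInjective_apply]
    | 1 => simp [conv, lettHN, gen_low, g5, H81.HNCover.Model.letterG, H81.HNGlue.model,
        MonoidHom.ofInjective_apply]
    | 2 => simp [conv, lettHN, gen_low, g5, H81.HNCover.Model.letterG, H81.HNGlue.model,
        MonoidHom.ofInjective_apply]
    | 3 => simp [conv, lettHN, gen_low, g5, H81.HNCover.Model.letterG, H81.HNGlue.model,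
        MonoidHom.ofInjective_apply]
    | _ + 4 =>
      simp [conv, lettHN, gen_low, g5, H81.HNCover.Model.letterG, H81.HNGlue.model,
        MonoidHom.ofInjective_apply, inv_eq_of_mul_eq_one_left (by rw [← map_mul, h2, map_one] : iota n0z * iota n0z = 1)]
  induction w with
  | nil => simp [el, H81.HNCover.Model.wordG]
  | cons c w ih =>
    rw [List.map_cons, List.reverse_cons, evw_append, evw_singleton, ← ih, ← g]
    simp [el, H81.HNCover.Model.wordG]

theorem psi_letters {l : ℕ} (hl : l < 6) : psi hA (lettHN l) = lettPts hA l := by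
  by_cases h : l = 5
  · subst h
    rw [lettPts, if_pos rfl, ← psi_t hA]
    rfl
  · rw [lettPts, if_neg h, lettHN, if_neg h, if_neg (by omega), psi_iota]

theorem psi_evw (w : List ℕ) (h : ∀ l ∈ w, l < 6) :
    psi hA (evw lettHN w) = evw (lettPts hA) w := by
  induction w with
  | nil => simp
  | cons l w ih =>
    simp only [List.mem_cons, forall_eq_or_imp] at h
    rw [evw_cons, evw_cons, map_mul, ih h.2, psi_letters hA h.1]

theorem gt_four : ((pres Spor.HN.t)⁻¹) * (pres Spor.HN.t)⁻¹ * (pres Spor.HN.t)⁻¹ *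
    (pres Spor.HN.t)⁻¹ = pres Spor.HN.t := by
  have h5 := t_rels.1
  calc _ = (pres Spor.HN.t ^ 5)⁻¹ * pres Spor.HN.t := by group
    _ = _ := by rw [h5, inv_one, one_mul]

theorem relation :
    (el (H81.HNGlue.model hA) (vW.getD 0 []) * (pres Spor.HN.t)⁻¹ *
      el (H81.HNGlue.model hA) (vW.getD 0 []) * pres Spor.HN.t) ^ 2 =
      evw lettHN relA := by
  rw [relA_ok]
  simp only [evw_append, evw_cons, evw_nil, one_mul, ← el_conv hA]
  rw [show lettHN 5 = (pres Spor.HN.t)⁻¹ by simp [lettHN], gt_four, pow_two]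
  simp only [mul_assoc]

theorem fix_base {rel s : List ℕ} {st : List Step} (h6 : 6 ∉ rel)
    (hl : cert.loopOK 0 [] st rel s = true) :
    evw (lettPts hA) rel (basePt hA) = basePt hA :=
  loop_perm hA (i := 0) (w := []) (r_pos hA) h6 hl

theorem fix_one {rel s w : List ℕ} {st : List Step} (h6 : 6 ∉ rel)
    (hl : cert.loopOK 1 w st rel s = true) :
    evw (lettPts hA) rel ((setting hA).pt 1 H81.HNGlue.sg_one_ok.2 (evw gen w)) =
      (setting hA).pt 1 H81.HNGlue.sg_one_ok.2 (evw gen w) :=
  loop_perm hA H81.HNGlue.sg_one_ok.2 h6 hl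

include hA in
theorem range_of_fix {g : Spor.HN} (h0 : psi hA g (basePt hA) = basePt hA) : g ∈ iota.range := by
  have h1 : g • (QuotientGroup.mk 1 : Spor.HN ⧸ iota.range) = QuotientGroup.mk 1 := by
    have e := toCos_psi hA g (basePt hA)
    rw [h0] at e
    exact (congrArg (g • ·) (toCos_base hA)).symm.trans (e.symm.trans (toCos_base hA))
  rwa [MulAction.Quotient.smul_mk, QuotientGroup.eq, smul_eq_mul, mul_one, mul_one, inv_mem_iff]
    at h1

include hA in
theorem of_loops {rel : List ℕ} (hrel : 6 ∉ rel ∧ ∀ l ∈ rel, l < 6) {s0 : List ℕ} {st0 : List Step}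
    (hl0 : cert.loopOK 0 [] st0 rel s0 = true)
    {R : List (ℕ × List (ℕ × ℕ × ℕ) × ℕ)}
    (hl1 : R.all (fun p =>
      cert.loopOK 1 (unpack p.1) (Cert.mkSteps rel p.2.1) rel (unpack p.2.2)) = true) :
    ∃ n : N0, iota n = evw lettHN rel ∧
      ∀ i : Fin 1408, i.val ∈ R.map (fun p => runK cert.T (unpack p.1) 0) → φ0 n i = i := by
  obtain ⟨n, hn⟩ := range_of_fix hA (g := evw lettHN rel) (by
    rw [psi_evw hA _ hrel.2]
    exact fix_base hA hrel.1 hl0)
  refine ⟨n, hn, fun i hi => ?_⟩
  rw [List.mem_map] at hi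
  obtain ⟨p, hp, hpi⟩ := hi
  have hfix := fix_one hA hrel.1 (List.all_eq_true.1 hl1 p hp)
  rw [← psi_evw hA _ hrel.2, ← hn, psi_iota, actPerm_apply] at hfix
  have h := H81.HNGlue.fix_of_act hA hfix
  have e : φ0 (evw gen (unpack p.1)) ⟨0, by norm_num⟩ = i := Fin.ext (by
    rw [← hpi, runK_eq]
    exact rep.evw_apply _ _)
  rwa [e] at h

/-- The Harada–Norton group as a transitive group of degree `1140000`. -/
theorem realisation_final (hA : XYZBound) :
    ∃ H : Subgroup (Equiv.Perm (Fin 1140000)), IsHN H ∧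
      MulAction.IsPretransitive H (Fin 1140000) ∧
      Nonempty (MulAction.stabilizer H (0 : Fin 1140000) ≃* alternatingGroup (Fin 12)) := by
  obtain ⟨h5, hx, hy, -⟩ := t_rels
  refine realisation (H81.HNGlue.model hA) (H81.HNGlue.isHN hA) (H81.HNGlue.card_range hA)
    (pres Spor.HN.t) h5 ?_ ?_ ?_
  · rw [(H81.HNGlue.model_coe hA).1]
    exact hx
  · rw [(H81.HNGlue.model_coe hA).2.1]
    calc (pres Spor.HN.t)⁻¹ * (pres Spor.HN.y)⁻¹ * pres Spor.HN.t * pres Spor.HN.y
        = (pres Spor.HN.t)⁻¹ * (pres Spor.HN.y)⁻¹ * (pres Spor.HN.t * pres Spor.HN.y) := by group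
      _ = 1 := by rw [hy.eq]; group
  · obtain ⟨n, hn, hfix⟩ := of_loops hA relA_no6 loop0_ok loops1_ok
    rw [← reps_ok] at hfix
    · let e := MonoidHom.ofInjective (H81.HNGlue.iota_injective hA)
      refine relation_of_fix (H81.HNGlue.model hA) (H81.HNGlue.card_range hA) _ ?_ (e n) ?_ ?_
      · intro i hi
        have hcard := H81.HNGlue.card_range hA
        have h := el_eq (H81.HNGlue.model hA) hcard (a := vW.getD (i + 1) [])
          (b := (hW.getD i []).flatMap H81.HNCover.expand) (by interval_cases i <;> decide +kernel)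
        rw [h, el_conv hA]
        have hm : ∀ l ∈ (((hW.getD i []).flatMap H81.HNCover.expand).map conv).reverse, l < 5 := by
          interval_cases i <;> decide +kernel
        have hH : evw gen ((((hW.getD i []).flatMap H81.HNCover.expand).map conv).reverse) ∈
            (setting hA).Hsub := by
          refine ((setting hA).e_mem_Hsub).2 ?_
          rw [← runK_eq]
          show runK cert.T _ 0 = 0
          interval_cases i <;> decide +kernel
        have hc := iota_mem_hsub hA hH
        have e2 : ∀ w : List ℕ, (∀ l ∈ w, l < 5) → iota (evw gen w) = evw lettHN w := by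
          intro w
          induction w with
          | nil => simp
          | cons l w ih =>
            intro hw
            simp only [List.mem_cons, forall_eq_or_imp] at hw
            rw [evw_cons, evw_cons, map_mul, ih hw.2, lettHN, if_neg (by omega), if_neg (by omega)]
        rwa [e2 _ hm] at hc
      · rw [relation]
        exact hn
      · intro i hi
        show φ0 (e.symm (e n)) i = i
        rw [e.symm_apply_apply]
        exact hfix i hi

end H81.HNAlt
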