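import Cfsg.Agent.H81.HN.Multiplier

/-!
Words in `<x, y, z>` for a copy of `A₁₂` in the presented Harada–Norton group.
-/

set_option autoImplicit false
set_option maxRecDepth 100000

namespace H81.HNAlt

open Cfsg H81.HS2 H81.HNCover

/-- Six three-cycles `(a b i)` in `<x, y, z>`. -/
def vW : List (List ℕ) :=
  [[3, 0, 3, 3, 4, 3, 0, 2, 4, 2, 4, 2, 0, 4, 2, 4, 3, 4],
   [2, 2, 0, 2, 2, 0, 3, 3, 0, 3, 3, 0, 3, 3],
   [0, 2, 2, 0, 3, 0, 3, 0, 2, 2, 2, 0, 2, 2, 1, 2],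
   [3, 0, 3, 0, 2, 0, 2, 2, 2, 0, 3, 3, 0, 2, 2, 1],
   [3, 0, 2, 2, 2, 0, 2, 0, 2, 0, 2, 2, 2, 0, 3, 1],
   [0, 3, 0, 3, 3, 0, 3, 0, 2, 0, 2, 2, 1, 2]]

/-- The last five of them as words in `y` and `x⁻¹ y x`, letters as in `H81.HNCover.expand`. -/
def hW : List (List ℕ) :=
  [[0, 0, 2, 2, 1, 1, 3, 3, 1, 1],
   [0, 0, 3, 1, 2, 2, 0, 2, 2, 0],
   [1, 1, 2, 1, 3, 3, 1, 1, 2, 2],
   [1, 2, 2, 1, 3, 1, 3, 0, 0, 3],
   [3, 1, 1, 3, 0, 2, 2, 0]]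

/-- An element inverting the first cycle. -/
def dW : List ℕ := 0 :: (vW.getD 5 [] ++ vW.getD 5 [])

/-- The identities inside `<x, y, z>` needed below. -/
def nEqs : List (List ℕ × List ℕ) :=
  vW.map (fun w => (w ++ w ++ w, [])) ++
  ((List.range 5).map fun i => (vW.getD (i + 1) [], (hW.getD i []).flatMap expand)) ++
  [(vW.getD 0 [] ++ dW, dW ++ vW.getD 0 [] ++ vW.getD 0 [])] ++
  ((List.range 6).flatMap fun i => ((List.range 6).filter (i < ·)).map fun j =>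
    (vW.getD i [] ++ vW.getD j [] ++ vW.getD i [] ++ vW.getD j [], []))

theorem nEqs_ok : nEqs.all (fun e =>
    (List.range 1408).all (fun i => applyW e.1 i == applyW e.2 i)) = true := by
  decide +kernel

theorem v0_ne_ok : applyW (vW.getD 0 []) 0 ≠ 0 := by
  decide +kernel

end H81.HNAlt
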