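import Cfsg.Agent.H81.HN.Data
import Cfsg.Agent.H81.HS.Multiplier
import Cfsg.Prelude.Def_SporadicB

/-!
A group of order 177408000 with the action of `2.HS:2` on 1408 points has a subgroup of index 2
which is a non-split double cover of the Higman–Sims group.
-/

set_option autoImplicit false
set_option maxRecDepth 100000

namespace H81.HNCover

open Cfsg H81.HS2
open scoped commutatorElement

/-- The field `i` of a packed table of eleven bit fields. -/
def tab (c i : ℕ) : ℕ := Nat.land (Nat.shiftRight c (11 * i)) 2047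

/-- A point is in the half carrying the double cover. -/
def side (i : ℕ) : Bool := decide (tab tEmb (tab tPos i) = i)

/-- The table of a letter. -/
def letterT : ℕ → ℕ
  | 0 => tX
  | 1 => tXi
  | 2 => tY
  | 3 => tYi
  | _ => tZ

/-- The image of a point under a word. -/
def applyW (w : List ℕ) (i : ℕ) : ℕ := w.foldr (fun c acc => tab (letterT c) acc) i

theorem tables_ok : (List.range 1408).all (fun i =>
    decide (tab tX i < 1408) && decide (tab tXi i < 1408) && decide (tab tY i < 1408) &&
    decide (tab tYi i < 1408) && decide (tab tZ i < 1408) &&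
    tab tX (tab tXi i) == i && tab tY (tab tYi i) == i &&
    side (tab tX i) == side i && side (tab tY i) == side i && side (tab tZ i) == !(side i) &&
    decide (tab tPos i < 704)) = true := by
  decide +kernel

theorem emb_ok : (List.range 704).all (fun u =>
    decide (tab tEmb u < 1408) && side (tab tEmb u) && tab tPos (tab tEmb u) == u &&
    applyW wA (tab tEmb u) == tab tEmb (img cA u) &&
    applyW wB (tab tEmb u) == tab tEmb (img cB u)) = true := by
  decide +kernel

theorem side_true {i : ℕ} (h : side i = true) : tab tEmb (tab tPos i) = i := by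
  simpa [side] using h

theorem spec (i : Fin 1408) :
    tab tX i < 1408 ∧ tab tXi i < 1408 ∧ tab tY i < 1408 ∧ tab tYi i < 1408 ∧ tab tZ i < 1408 ∧
    tab tX (tab tXi i) = i ∧ tab tY (tab tYi i) = i ∧
    side (tab tX i) = side i ∧ side (tab tY i) = side i ∧ side (tab tZ i) = !(side i) ∧
    tab tPos i < 704 := by
  have h := List.all_eq_true.1 tables_ok i.val (List.mem_range.2 i.isLt)
  simpa [Bool.and_eq_true, and_assoc] using h

theorem embSpec (u : Pt) :
    tab tEmb u < 1408 ∧ side (tab tEmb u) = true ∧ tab tPos (tab tEmb u) = u ∧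
    applyW wA (tab tEmb u) = tab tEmb (img cA u) ∧ applyW wB (tab tEmb u) = tab tEmb (img cB u) := by
  have h := List.all_eq_true.1 emb_ok u.val (List.mem_range.2 u.isLt)
  simpa [Bool.and_eq_true, and_assoc] using h

/-- The embedding of the 704 points. -/
def emb (u : Pt) : Fin 1408 := ⟨tab tEmb u, (embSpec u).1⟩

/-- The 704 points are the first half. -/
def ptEquiv : Pt ≃ {i : Fin 1408 // side i.val = true} where
  toFun u := ⟨emb u, (embSpec u).2.1⟩
  invFun i := ⟨tab tPos i.1.val, (spec i.1).2.2.2.2.2.2.2.2.2.2⟩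
  left_inv u := Fin.ext (embSpec u).2.2.1
  right_inv i := Subtype.ext (Fin.ext (side_true i.2))

section

universe u

variable {N : Type u} [Group N]

/-- A group generated by three elements acting on 1408 points by the three tables. -/
structure Model (N : Type u) [Group N] where
  x : N
  y : N
  z : N
  gen : Subgroup.closure {x, y, z} = (⊤ : Subgroup N)
  ρ : N →* Equiv.Perm (Fin 1408)
  hx : ∀ i, (ρ x i).val = tab tX i.val
  hy : ∀ i, (ρ y i).val = tab tY i.val
  hz : ∀ i, (ρ z i).val = tab tZ i.val

namespace Model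

variable (M : Model N)

theorem hxi (i : Fin 1408) : (M.ρ M.x⁻¹ i).val = tab tXi i.val := by
  obtain ⟨-, hlt, -, -, -, h, -⟩ := spec i
  have e : M.ρ M.x ⟨tab tXi i.val, hlt⟩ = i := Fin.ext ((M.hx _).trans h)
  conv_lhs => rw [← e]
  rw [← Equiv.Perm.mul_apply, ← map_mul, inv_mul_cancel, map_one, Equiv.Perm.one_apply]

theorem hyi (i : Fin 1408) : (M.ρ M.y⁻¹ i).val = tab tYi i.val := by
  obtain ⟨-, -, -, hlt, -, -, h, -⟩ := spec i
  have e : M.ρ M.y ⟨tab tYi i.val, hlt⟩ = i := Fin.ext ((M.hy _).trans h)
  conv_lhs => rw [← e]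
  rw [← Equiv.Perm.mul_apply, ← map_mul, inv_mul_cancel, map_one, Equiv.Perm.one_apply]

/-- The element of a letter. -/
def letterG : ℕ → N
  | 0 => M.x
  | 1 => M.x⁻¹
  | 2 => M.y
  | 3 => M.y⁻¹
  | _ => M.z

theorem letter_apply : ∀ (c : ℕ) (i : Fin 1408), (M.ρ (M.letterG c) i).val = tab (letterT c) i.val
  | 0, i => M.hx i
  | 1, i => M.hxi i
  | 2, i => M.hy i
  | 3, i => M.hyi i
  | _ + 4, i => M.hz i

/-- The element of a word. -/
def wordG (w : List ℕ) : N := (w.map M.letterG).prod

theorem word_apply (w : List ℕ) (i : Fin 1408) : (M.ρ (M.wordG w) i).val = applyW w i.val := by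
  induction w with
  | nil => simp [wordG, applyW]
  | cons c w ih =>
    rw [wordG, List.map_cons, List.prod_cons, map_mul, Equiv.Perm.mul_apply, M.letter_apply]
    show tab (letterT c) _ = tab (letterT c) (applyW w i.val)
    rw [← ih]
    rfl

theorem parity (n : N) : (∀ i, side (M.ρ n i).val = side i.val) ∨
    ∀ i, side (M.ρ n i).val = !side i.val := by
  have hn : n ∈ Subgroup.closure ({M.x, M.y, M.z} : Set N) := M.gen ▸ Subgroup.mem_top n
  induction hn using Subgroup.closure_induction with
  | mem a ha =>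
    rcases ha with rfl | rfl | rfl
    · exact Or.inl fun i => by rw [M.hx]; exact (spec i).2.2.2.2.2.2.2.1
    · exact Or.inl fun i => by rw [M.hy]; exact (spec i).2.2.2.2.2.2.2.2.1
    · exact Or.inr fun i => by rw [M.hz]; exact (spec i).2.2.2.2.2.2.2.2.2.1
  | one => exact Or.inl fun i => by simp
  | mul a b _ _ ha hb =>
    rcases ha with ha | ha <;> rcases hb with hb | hb
    · exact Or.inl fun i => by rw [map_mul, Equiv.Perm.mul_apply, ha, hb]
    · exact Or.inr fun i => by rw [map_mul, Equiv.Perm.mul_apply, ha, hb]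
    · exact Or.inr fun i => by rw [map_mul, Equiv.Perm.mul_apply, ha, hb]
    · exact Or.inl fun i => by rw [map_mul, Equiv.Perm.mul_apply, ha, hb, Bool.not_not]
  | inv a _ ha =>
    rcases ha with ha | ha
    · exact Or.inl fun i => by
        rw [← ha ((M.ρ a⁻¹) i), ← Equiv.Perm.mul_apply, ← map_mul, mul_inv_cancel, map_one,
          Equiv.Perm.one_apply]
    · exact Or.inr fun i => by
        have e : M.ρ a (M.ρ a⁻¹ i) = i := by
          rw [← Equiv.Perm.mul_apply, ← map_mul, mul_inv_cancel, map_one, Equiv.Perm.one_apply]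
        have h := ha (M.ρ a⁻¹ i)
        rw [e] at h
        rw [h, Bool.not_not]

/-- The elements keeping the halves. -/
def K : Subgroup N where
  carrier := {n | ∀ i, side (M.ρ n i).val = side i.val}
  one_mem' i := by simp
  mul_mem' {a b} ha hb i := by rw [map_mul, Equiv.Perm.mul_apply, ha, hb]
  inv_mem' {a} ha i := by
    rw [← ha ((M.ρ a⁻¹) i), ← Equiv.Perm.mul_apply, ← map_mul, mul_inv_cancel, map_one,
      Equiv.Perm.one_apply]

theorem mem_K {n : N} : n ∈ M.K ↔ ∀ i, side (M.ρ n i).val = side i.val := Iff.rfl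

theorem mem_K_of_point {n : N} (i : Fin 1408) (h : side (M.ρ n i).val = side i.val) : n ∈ M.K := by
  rcases M.parity n with h' | h'
  · exact h'
  · rw [h' i] at h
    exact absurd h (by cases side i.val <;> decide)

theorem not_mem_K {n : N} (hn : n ∉ M.K) (i : Fin 1408) : side (M.ρ n i).val = !side i.val :=
  ((M.parity n).resolve_left fun h => hn h) i

theorem index_K : M.K.index = 2 := by
  rw [Subgroup.index_eq_two_iff]
  refine ⟨M.z, fun n => ?_⟩
  have hz : ∀ i, side (M.ρ M.z i).val = !side i.val := fun i => by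
    rw [M.hz]; exact (spec i).2.2.2.2.2.2.2.2.2.1
  by_cases hn : n ∈ M.K
  · refine Or.inr ⟨hn, fun h => ?_⟩
    have e := (M.mem_K.1 (mul_mem (inv_mem hn) h)) 0
    rw [inv_mul_cancel_left, hz] at e
    exact absurd e (by cases side ((0 : Fin 1408) : ℕ) <;> decide)
  · refine Or.inl ⟨M.mem_K_of_point 0 ?_, hn⟩
    rw [map_mul, Equiv.Perm.mul_apply, M.not_mem_K hn, hz, Bool.not_not]

theorem mem_side {k : N} (hk : k ∈ M.K) (i : Fin 1408) :
    side (M.ρ k i).val = true ↔ side i.val = true := by
  rw [hk i]

/-- The restriction to the first half. -/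
noncomputable def res : M.K →* Equiv.Perm Pt :=
  MonoidHom.mk' (fun k => ptEquiv.symm.permCongr ((M.ρ k.1).subtypePerm (M.mem_side k.2)))
    fun a b => by
      ext u
      simp [Equiv.permCongr_apply, Subgroup.coe_mul, map_mul, Equiv.Perm.subtypePerm_apply]

theorem res_apply (k : M.K) (u : Pt) : emb (M.res k u) = M.ρ k.1 (emb u) := by
  have h : ptEquiv (M.res k u) = (M.ρ k.1).subtypePerm (M.mem_side k.2) (ptEquiv u) := by
    simp [res, Equiv.permCongr_apply]
  exact congrArg Subtype.val h

theorem word_res {w : List ℕ} {c : ℕ} {g : Equiv.Perm Pt} (hg : g * sPerm = sPerm * g)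
    (hc : code g = c) (h : ∀ u : Pt, applyW w (tab tEmb u) = tab tEmb (img c u)) :
    ∃ k : M.K, M.res k = g := by
  have e : ∀ u : Pt, M.ρ (M.wordG w) (emb u) = emb (g u) := fun u => Fin.ext (by
    rw [M.word_apply]
    show applyW w (tab tEmb u) = tab tEmb (g u).val
    rw [h, ← hc, img_code hg])
  have hk : M.wordG w ∈ M.K := M.mem_K_of_point (emb 0) (by
    rw [e]; exact (embSpec (g 0)).2.1.trans (embSpec 0).2.1.symm)
  refine ⟨⟨_, hk⟩, Equiv.ext fun u => ptEquiv.injective (Subtype.ext ?_)⟩
  exact (M.res_apply _ u).trans (e u)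

theorem G0_le : G0 ≤ M.res.range := by
  refine (Subgroup.closure_le _).2 ?_
  rintro g (rfl | hg)
  · exact M.word_res gA_spec.1 gA_spec.2 fun u => (embSpec u).2.2.2.1
  · rw [Set.mem_singleton_iff.1 hg]
    exact M.word_res gB_spec.1 gB_spec.2 fun u => (embSpec u).2.2.2.2

theorem res_spec (hcard : Nat.card N = 177408000) :
    M.res.range = G0 ∧ Function.Injective M.res := by
  haveI : Finite N := Nat.finite_of_card_ne_zero (by rw [hcard]; norm_num)
  have hK : Nat.card M.K = 88704000 := by
    have h := M.K.card_mul_index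
    rw [M.index_K, hcard] at h
    omega
  have hr : Nat.card M.res.range ≤ Nat.card M.K :=
    Nat.card_le_card_of_surjective _ M.res.rangeRestrict_surjective
  have heq : G0 = M.res.range := Subgroup.eq_of_le_of_card_ge M.G0_le (by rw [card_G0, ← hK]; exact hr)
  refine ⟨heq.symm, (MonoidHom.ker_eq_bot_iff _).1 (Subgroup.card_eq_one.1 ?_)⟩
  have h := Subgroup.card_eq_card_quotient_mul_card_subgroup M.res.ker
  rw [Nat.card_congr (QuotientGroup.quotientKerEquivRange M.res).toEquiv, ← heq, card_G0, hK] at h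
  omega

/-- The subgroup of index 2 is the double cover on 704 points. -/
noncomputable def equiv (hcard : Nat.card N = 177408000) : M.K ≃* G0 :=
  (MonoidHom.ofInjective (M.res_spec hcard).2).trans (MulEquiv.subgroupCongr (M.res_spec hcard).1)

end Model

end

/-- A perfect double cover of a group without centre is non-split. -/
theorem nonsplit_of_cover {H L : Type*} [Group H] [Group L] (q : H →* L)
    (hq : Function.Surjective q) (hc : q.ker ≤ Subgroup.center H) (h2 : Nat.card q.ker = 2)
    (hperf : commutator H = ⊤) (hZ : Subgroup.center L = ⊥) : IsNonsplitDoubleCover H L := by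
  have hker : Subgroup.center H = q.ker := le_antisymm (fun z hz => by
    have : q z ∈ Subgroup.center L := Subgroup.mem_center_iff.2 fun l => by
      obtain ⟨g, rfl⟩ := hq l
      rw [← map_mul, ← map_mul, Subgroup.mem_center_iff.1 hz g]
    rw [hZ, Subgroup.mem_bot] at this
    exact MonoidHom.mem_ker.2 this) hc
  refine ⟨hker ▸ h2, ⟨(QuotientGroup.quotientMulEquivOfEq hker).trans
    (QuotientGroup.quotientKerEquivOfSurjective q hq)⟩, fun S hS => ?_⟩
  have hcom : commutator H ≤ S := by
    rw [commutator_def, Subgroup.commutator_le]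
    intro a _ b _
    obtain ⟨⟨za, sa⟩, rfl⟩ := hS.2 a
    obtain ⟨⟨zb, sb⟩, rfl⟩ := hS.2 b
    have ha : ∀ g : H, g * za.1 = za.1 * g := Subgroup.mem_center_iff.1 za.2
    have hb : ∀ g : H, g * zb.1 = zb.1 * g := Subgroup.mem_center_iff.1 zb.2
    have e : ⁅za.1 * sa.1, zb.1 * sb.1⁆ = ⁅sa.1, sb.1⁆ := by
      have hab : za.1 * sa.1 * (zb.1 * sb.1) = za.1 * zb.1 * (sa.1 * sb.1) := by
        rw [mul_assoc, ← mul_assoc sa.1, hb sa.1, mul_assoc zb.1, ← mul_assoc]
      have hba : zb.1 * sb.1 * (za.1 * sa.1) = za.1 * zb.1 * (sb.1 * sa.1) := by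
        rw [mul_assoc, ← mul_assoc sb.1, ha sb.1, mul_assoc za.1, ← mul_assoc, ha zb.1]
      calc ⁅za.1 * sa.1, zb.1 * sb.1⁆
          = za.1 * sa.1 * (zb.1 * sb.1) * (zb.1 * sb.1 * (za.1 * sa.1))⁻¹ := by
            rw [commutatorElement_def]; group
        _ = za.1 * zb.1 * (sa.1 * sb.1) * (za.1 * zb.1 * (sb.1 * sa.1))⁻¹ := by rw [hab, hba]
        _ = za.1 * zb.1 * ⁅sa.1, sb.1⁆ * (za.1 * zb.1)⁻¹ := by rw [commutatorElement_def]; group
        _ = ⁅sa.1, sb.1⁆ := by
            have hz : za.1 * zb.1 ∈ Subgroup.center H := mul_mem za.2 zb.2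
            rw [← Subgroup.mem_center_iff.1 hz ⁅sa.1, sb.1⁆, mul_inv_cancel_right]
    show ⁅za.1 * sa.1, zb.1 * sb.1⁆ ∈ S
    rw [e, commutatorElement_def]
    exact mul_mem (mul_mem (mul_mem sa.2 sb.2) (inv_mem sa.2)) (inv_mem sb.2)
  rw [hperf] at hcom
  have hS' : S = ⊤ := top_le_iff.1 hcom
  subst hS'
  have hbot : Subgroup.center H = ⊥ := Subgroup.isComplement'_top_right.1 hS
  rw [← hker, hbot, Subgroup.card_bot] at h2
  exact absurd h2 (by norm_num)

theorem center_group : Subgroup.center H95.pvU'.group = ⊥ := by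
  haveI hsimple : IsSimpleGroup H95.pvU'.group :=
    H95.hs_simple H95.m22_simple H96.HS100.card_group
  haveI : Finite H95.pvU'.group :=
    Nat.finite_of_card_ne_zero (by rw [H96.HS100.card_group]; norm_num)
  refine (inferInstance : (Subgroup.center H95.pvU'.group).Normal).eq_bot_or_eq_top.resolve_right
    fun h => ?_
  letI : CommGroup H95.pvU'.group :=
    { (inferInstance : Group H95.pvU'.group) with
      mul_comm := fun a b => Subgroup.mem_center_iff.1 (h ▸ Subgroup.mem_top b) a }
  have hp : (Nat.card H95.pvU'.group).Prime := IsSimpleGroup.prime_card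
  rw [H96.HS100.card_group] at hp
  norm_num at hp

theorem center_HS : Subgroup.center Cfsg.Spor.HS = ⊥ := by
  rw [eq_bot_iff]
  intro z hz
  have e : (H95.infStabPair H95.pvU') z ∈ Subgroup.center H95.pvU'.group :=
    Subgroup.mem_center_iff.2 fun l => by
      obtain ⟨g, rfl⟩ := (H95.infStabPair H95.pvU').surjective l
      exact (map_mul (H95.infStabPair H95.pvU') g z).symm.trans
        ((congrArg (H95.infStabPair H95.pvU') (Subgroup.mem_center_iff.1 hz g)).trans
          (map_mul (H95.infStabPair H95.pvU') z g))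
  rw [center_group, Subgroup.mem_bot] at e
  exact Subgroup.mem_bot.2 ((H95.infStabPair H95.pvU').map_eq_one_iff.1 e)

/-- The subgroup of index 2 is a non-split double cover of the Higman–Sims group. -/
theorem exists_cover {N : Type*} [Group N] (M : Model N) (hcard : Nat.card N = 177408000) :
    ∃ K : Subgroup N, K.Normal ∧ K.index = 2 ∧ IsNonsplitDoubleCover K Cfsg.Spor.HS := by
  refine ⟨M.K, Subgroup.normal_of_index_eq_two M.index_K, M.index_K, ?_⟩
  let e := M.equiv hcard
  have hk : toHS.ker = proj.ker :=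
    MonoidHom.ker_mulEquiv_comp proj (H95.infStabPair H95.pvU').symm
  have hkc : (toHS.comp e.toMonoidHom).ker = toHS.ker.comap e.toMonoidHom :=
    (MonoidHom.comap_ker toHS e.toMonoidHom).symm
  refine nonsplit_of_cover (toHS.comp e.toMonoidHom)
    (((H95.infStabPair H95.pvU').symm.surjective.comp proj_surjective).comp e.surjective) ?_ ?_ ?_
    center_HS
  · intro k hk'
    rw [Subgroup.mem_center_iff]
    intro g
    have hc : e k ∈ Subgroup.center G0 := ker_le_center (hk ▸ hk')
    exact e.injective (by rw [map_mul, map_mul, Subgroup.mem_center_iff.1 hc (e g)])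
  · rw [hkc, Nat.card_congr (MulEquiv.subgroupMap e _).toEquiv]
    show Nat.card ((toHS.ker.comap e.toMonoidHom).map e.toMonoidHom) = 2
    rw [Subgroup.map_comap_eq_self_of_surjective (f := e.toMonoidHom) e.surjective, hk, card_ker]
  · have h : (commutator M.K).map e.toMonoidHom = (⊤ : Subgroup M.K).map e.toMonoidHom := by
      rw [commutator_def, Subgroup.map_commutator, Subgroup.map_top_of_surjective e.toMonoidHom
        e.surjective, ← commutator_def, perfect]
    exact Subgroup.map_injective e.injective h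

end H81.HNCover
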