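import Cfsg.Agent.H81.HN.Cover
import Cfsg.Prelude.Def_Spor_HN

/-!
Simplicity from the action on the cosets of `2.HS:2`, and perfectness of the presented
Harada–Norton group.
-/

set_option autoImplicit false
set_option maxRecDepth 100000

namespace H81.HNCover

open Cfsg H81.HS2
open scoped commutatorElement

/-- A word fixing the first point. -/
def wS1 : List ℕ := [0, 2, 4, 2, 2, 4, 3, 0, 3, 1, 3, 3, 4, 3, 1, 3, 4]

/-- A second word fixing the first point. -/
def wS2 : List ℕ := [0, 3, 4, 3, 1, 3, 4, 2, 2, 0, 3, 3, 4, 3, 3, 4]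

theorem stab_ok : applyW wS1 (tab tEmb 0) = tab tEmb 0 ∧ applyW wS2 (tab tEmb 0) = tab tEmb 0 ∧
    (List.range 1408).all (fun i => side i || !(applyW wS1 i == i) || !(applyW wS2 i == i)) = true := by
  decide +kernel

universe u

variable {N : Type u} [Group N]

namespace Model

variable (M : Model N)

theorem centralizer_K {n : N} (hn : ∀ k ∈ M.K, k * n = n * k) : n ∈ M.K := by
  by_contra hc
  have hk : ∀ w : List ℕ, applyW w (tab tEmb 0) = tab tEmb 0 →
      applyW w (M.ρ n (emb 0)).val = (M.ρ n (emb 0)).val := by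
    intro w hw
    have e0 : M.ρ (M.wordG w) (emb 0) = emb 0 := Fin.ext ((M.word_apply w _).trans hw)
    have hK : M.wordG w ∈ M.K := M.mem_K_of_point (emb 0) (by rw [e0])
    rw [← M.word_apply, ← Equiv.Perm.mul_apply, ← map_mul, hn _ hK, map_mul, Equiv.Perm.mul_apply, e0]
  have hs : side (M.ρ n (emb 0)).val = false := by
    rw [M.not_mem_K hc, show side (emb 0).val = true from (embSpec 0).2.1]
    rfl
  have h := List.all_eq_true.1 stab_ok.2.2 _ (List.mem_range.2 (M.ρ n (emb 0)).isLt)
  rw [hs, hk _ stab_ok.1, hk _ stab_ok.2.1] at h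
  simp at h

theorem perfect_K (hcard : Nat.card N = 177408000) : commutator M.K = ⊤ := by
  have h : (commutator M.K).map (M.equiv hcard).toMonoidHom =
      (⊤ : Subgroup M.K).map (M.equiv hcard).toMonoidHom := by
    rw [commutator_def, Subgroup.map_commutator, Subgroup.map_top_of_surjective
      (M.equiv hcard).toMonoidHom (M.equiv hcard).surjective, ← commutator_def, perfect]
  exact Subgroup.map_injective (M.equiv hcard).injective h

/-- A normal subgroup not inside the double cover is everything. -/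
theorem normal_eq_top (hcard : Nat.card N = 177408000) (S : Subgroup N) [S.Normal]
    (hS : ¬ S ≤ M.K) : S = ⊤ := by
  haveI : M.K.Normal := Subgroup.normal_of_index_eq_two M.index_K
  obtain ⟨s, hsS, hsK⟩ := SetLike.not_le_iff_exists.1 hS
  let T : Subgroup M.K := S.subgroupOf M.K
  haveI : T.Normal := Subgroup.Normal.subgroupOf inferInstance _
  have hperf := M.perfect_K hcard
  let q : M.K →* H95.pvU'.group := proj.comp (M.equiv hcard).toMonoidHom
  have hq : Function.Surjective q := proj_surjective.comp (M.equiv hcard).surjective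
  have hqc : q.ker ≤ Subgroup.center M.K := by
    intro k hk
    rw [Subgroup.mem_center_iff]
    intro g
    have hc : M.equiv hcard k ∈ Subgroup.center G0 := ker_le_center hk
    exact (M.equiv hcard).injective (by
      rw [map_mul, map_mul, Subgroup.mem_center_iff.1 hc (M.equiv hcard g)])
  haveI : IsSimpleGroup H95.pvU'.group := H95.hs_simple H95.m22_simple H96.HS100.card_group
  rcases ((inferInstance : T.Normal).map q hq).eq_bot_or_eq_top with h | h
  · have hT : T ≤ Subgroup.center M.K :=
      le_trans ((Subgroup.map_eq_bot_iff T).1 h) hqc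
    have hmem : ∀ k : M.K, ⁅k.1, s⁆ ∈ M.K := fun k => by
      have e : ⁅k.1, s⁆ = k.1 * (s * k.1⁻¹ * s⁻¹) := by rw [commutatorElement_def]; group
      rw [e]
      exact mul_mem k.2 ((inferInstance : M.K.Normal).conj_mem _ (inv_mem k.2) s)
    have hcen : ∀ k : M.K, (⟨_, hmem k⟩ : M.K) ∈ Subgroup.center M.K := fun k => hT (by
      show ⁅k.1, s⁆ ∈ S
      rw [commutatorElement_def]
      exact mul_mem ((inferInstance : S.Normal).conj_mem s hsS k.1) (inv_mem hsS))
    let c : M.K →* Subgroup.center M.K := MonoidHom.mk' (fun k => ⟨_, hcen k⟩) fun a b => by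
      refine Subtype.ext (Subtype.ext ?_)
      show ⁅(a * b : M.K).1, s⁆ = ⁅a.1, s⁆ * ⁅b.1, s⁆
      have hb : a.1 * ⁅b.1, s⁆ = ⁅b.1, s⁆ * a.1 :=
        congrArg Subtype.val (Subgroup.mem_center_iff.1 (hcen b) a)
      have ha : (⁅a.1, s⁆ : N) * ⁅b.1, s⁆ = ⁅b.1, s⁆ * ⁅a.1, s⁆ :=
        congrArg Subtype.val (Subgroup.mem_center_iff.1 (hcen b) ⟨_, hmem a⟩)
      rw [ha]
      calc ⁅(a * b : M.K).1, s⁆ = a.1 * ⁅b.1, s⁆ * s * a.1⁻¹ * s⁻¹ := by
            rw [Subgroup.coe_mul, commutatorElement_def, commutatorElement_def]; group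
        _ = ⁅b.1, s⁆ * a.1 * s * a.1⁻¹ * s⁻¹ := by rw [hb]
        _ = ⁅b.1, s⁆ * ⁅a.1, s⁆ := by rw [commutatorElement_def a.1 s]; group
    have hker : c.ker = ⊤ := by
      rw [eq_top_iff, ← hperf, commutator_def, Subgroup.commutator_le]
      intro a _ b _
      rw [MonoidHom.mem_ker, map_commutatorElement, commutatorElement_eq_one_iff_mul_comm]
      exact Subtype.ext (Subgroup.mem_center_iff.1 (c b).2 (c a).1)
    refine absurd (M.centralizer_K fun k hk => ?_) hsK
    have h1 : (⟨k, hk⟩ : M.K) ∈ c.ker := hker ▸ Subgroup.mem_top _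
    have h2 : ⁅k, s⁆ = 1 := congrArg (fun x : Subgroup.center M.K => x.1.1) (MonoidHom.mem_ker.1 h1)
    exact commutatorElement_eq_one_iff_mul_comm.1 h2
  · have hcT : commutator M.K ≤ T := by
      rw [commutator_def, Subgroup.commutator_le]
      intro a _ b _
      have split : ∀ x : M.K, ∃ t ∈ T, x * t⁻¹ ∈ Subgroup.center M.K := fun x => by
        obtain ⟨t, ht, e⟩ : q x ∈ T.map q := h ▸ Subgroup.mem_top _
        exact ⟨t, ht, hqc (by rw [MonoidHom.mem_ker, map_mul, map_inv, e, mul_inv_cancel])⟩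
      obtain ⟨ta, hta, ha⟩ := split a
      obtain ⟨tb, htb, hb⟩ := split b
      rw [← QuotientGroup.eq_one_iff (N := T)]
      have hqa : (a : M.K ⧸ T) = ((a * ta⁻¹ : M.K) : M.K ⧸ T) := by
        rw [QuotientGroup.mk_mul, (QuotientGroup.eq_one_iff _).2 (inv_mem hta), mul_one]
      have hqb : (b : M.K ⧸ T) = ((b * tb⁻¹ : M.K) : M.K ⧸ T) := by
        rw [QuotientGroup.mk_mul, (QuotientGroup.eq_one_iff _).2 (inv_mem htb), mul_one]
      show (QuotientGroup.mk' T) ⁅a, b⁆ = 1
      rw [map_commutatorElement, commutatorElement_eq_one_iff_mul_comm]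
      show (a : M.K ⧸ T) * b = b * a
      rw [hqa, hqb, ← QuotientGroup.mk_mul, ← QuotientGroup.mk_mul,
        Subgroup.mem_center_iff.1 ha (b * tb⁻¹)]
    rw [hperf] at hcT
    rw [eq_top_iff]
    intro n _
    have hKS : ∀ k ∈ M.K, k ∈ S := fun k hk => hcT (Subgroup.mem_top ⟨k, hk⟩)
    by_cases hn : n ∈ M.K
    · exact hKS n hn
    · have h2 : s⁻¹ * n ∈ M.K := (Subgroup.mul_mem_iff_of_index_two M.index_K).2
        ⟨fun h => absurd ((Subgroup.inv_mem_iff _).1 h) hsK, fun h => absurd h hn⟩
      simpa using mul_mem hsS (hKS _ h2)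

end Model

/-- The sizes of the orbits of `2.HS:2` on the cosets. -/
def orbitSize : Fin 9 → ℕ := ![1, 1408, 2200, 5775, 35200, 123200, 277200, 354816, 739200]

theorem unions : ∀ A : Finset (Fin 9), (0 : Fin 9) ∈ A → (∑ j ∈ A, orbitSize j) ∣ 1539000 →
    A = {0} ∨ A = Finset.univ := by
  decide +kernel

/-- A group with this action on the cosets of `2.HS:2` is simple. -/
theorem simple_of_action {G : Type u} [Group G] (N : Subgroup G) (M : Model N)
    (hcard : Nat.card N = 177408000) (hidx : N.index = 1539000) (hcore : N.normalCore = ⊥)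
    (hperf : commutator G = ⊤) (f : G ⧸ N → Fin 9) (h0 : f (QuotientGroup.mk 1) = 0)
    (hsize : ∀ i, Nat.card {a : G ⧸ N // f a = i} = orbitSize i)
    (htrans : ∀ a b, f a = f b → ∃ n ∈ N, n • a = b) : IsSimpleGroup G := by
  classical
  haveI : N.FiniteIndex := ⟨by rw [hidx]; norm_num⟩
  haveI := Fintype.ofFinite (G ⧸ N)
  haveI : Nontrivial G := by
    by_contra h
    rw [not_nontrivial_iff_subsingleton] at h
    have : N = ⊤ := Subgroup.ext fun x => by simp [Subsingleton.elim x 1]
    rw [this, Subgroup.index_top] at hidx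
    norm_num at hidx
  refine ⟨fun S hSn => ?_⟩
  haveI := hSn
  by_cases hSN : S ≤ N
  · left
    rw [eq_bot_iff, ← hcore]
    exact Subgroup.normal_le_normalCore.2 hSN
  right
  -- `S` and `N` generate
  have hP : S ⊔ N = ⊤ := by
    set P := S ⊔ N with hPdef
    let B : Finset (G ⧸ N) := Finset.univ.filter fun a => ∃ g ∈ P, QuotientGroup.mk g = a
    let A : Finset (Fin 9) := B.image f
    have hB : B = Finset.univ.filter fun a => f a ∈ A := by
      ext a
      simp only [B, A, Finset.mem_filter, Finset.mem_univ, true_and, Finset.mem_image]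
      constructor
      · rintro ⟨g, hg, rfl⟩
        exact ⟨_, ⟨g, hg, rfl⟩, rfl⟩
      · rintro ⟨b, ⟨g, hg, rfl⟩, e⟩
        obtain ⟨n, hn, rfl⟩ := htrans _ _ e
        exact ⟨n * g, mul_mem ((le_sup_right : N ≤ P) hn) hg, rfl⟩
    have hcardB : B.card = ∑ j ∈ A, orbitSize j := by
      rw [Finset.card_eq_sum_card_image f B]
      refine Finset.sum_congr rfl fun j hj => ?_
      rw [← hsize j, Nat.card_eq_fintype_card, Fintype.card_subtype]
      congr 1
      ext a
      refine ⟨fun h => Finset.mem_filter.2 ⟨Finset.mem_univ _, (Finset.mem_filter.1 h).2⟩,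
        fun h => Finset.mem_filter.2 ⟨?_, (Finset.mem_filter.1 h).2⟩⟩
      show a ∈ B
      rw [hB]
      exact Finset.mem_filter.2 ⟨Finset.mem_univ _, (Finset.mem_filter.1 h).2.symm ▸ hj⟩
    have hset : (QuotientGroup.mk ⁻¹' (B : Set (G ⧸ N)) : Set G) = (P : Set G) := by
      ext g
      simp only [Set.mem_preimage, Finset.mem_coe, B, Finset.mem_filter, Finset.mem_univ, true_and,
        SetLike.mem_coe]
      refine ⟨?_, fun hg => ⟨g, hg, rfl⟩⟩
      rintro ⟨p, hp, e⟩
      have := mul_mem hp ((le_sup_right : N ≤ P) (QuotientGroup.eq.1 e))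
      rwa [mul_inv_cancel_left] at this
    have hcP : Nat.card P = Nat.card N * B.card := by
      have e := Nat.card_congr (QuotientGroup.preimageMkEquivSubgroupProdSet N (B : Set (G ⧸ N)))
      rw [Nat.card_prod, hset] at e
      rw [Nat.card_coe_set_eq (B : Set (G ⧸ N)), Set.ncard_coe_finset] at e
      exact e
    have hG : Nat.card G = Nat.card N * 1539000 := by rw [← hidx, N.card_mul_index]
    have hdvd : B.card ∣ 1539000 := by
      have h := P.card_subgroup_dvd_card
      rw [hG, hcP] at h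
      exact Nat.dvd_of_mul_dvd_mul_left (by rw [hcard]; norm_num) h
    have hA0 : (0 : Fin 9) ∈ A := Finset.mem_image.2
      ⟨_, Finset.mem_filter.2 ⟨Finset.mem_univ _, 1, one_mem _, rfl⟩, h0⟩
    rcases unions A hA0 (hcardB ▸ hdvd) with h | h
    · exfalso
      have hb1 : B.card = 1 := by rw [hcardB, h, Finset.sum_singleton]; rfl
      have hfin : Finite N := Nat.finite_of_card_ne_zero (by rw [hcard]; norm_num)
      haveI : Finite P := Nat.finite_of_card_ne_zero (by rw [hcP, hb1, hcard]; norm_num)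
      have : N = P := Subgroup.eq_of_le_of_card_ge le_sup_right (by rw [hcP, hb1, mul_one])
      exact hSN (this ▸ le_sup_left)
    · rw [eq_top_iff]
      intro g _
      have hg : (QuotientGroup.mk g : G ⧸ N) ∈ B := by
        rw [hB, h]; simp
      have hg' : g ∈ (QuotientGroup.mk ⁻¹' (B : Set (G ⧸ N)) : Set G) := hg
      rw [hset] at hg'
      exact hg'
  -- the quotient by `S` is an image of `N` and is perfect
  let φ : N →* G ⧸ S := (QuotientGroup.mk' S).comp N.subtype
  have hφ : Function.Surjective φ := by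
    rw [← MonoidHom.range_eq_top, MonoidHom.range_comp, Subgroup.range_subtype]
    have h : (S ⊔ N).map (QuotientGroup.mk' S) = ⊤ := by
      rw [hP, Subgroup.map_top_of_surjective _ (QuotientGroup.mk'_surjective S)]
    rwa [Subgroup.map_sup, QuotientGroup.map_mk'_self, bot_sup_eq] at h
  have hker : ¬ φ.ker ≤ M.K := fun hle => by
    have hc : commutator N ≤ M.K :=
      (Subgroup.commutator_le).2 fun a _ b _ => by
        simp only [commutatorElement_def, Subgroup.mul_mem_iff_of_index_two M.index_K,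
          Subgroup.inv_mem_iff]
        tauto
    have hmap : (commutator N).map φ = ⊤ := by
      rw [commutator_def, Subgroup.map_commutator, Subgroup.map_top_of_surjective φ hφ,
        ← Subgroup.map_top_of_surjective _ (QuotientGroup.mk'_surjective S), ← Subgroup.map_commutator,
        ← commutator_def, hperf]
    have htop : M.K = ⊤ := by
      rw [eq_top_iff]
      intro n _
      obtain ⟨c, hc', e⟩ : φ n ∈ (commutator N).map φ := hmap ▸ Subgroup.mem_top _
      have : c⁻¹ * n ∈ M.K := hle (by rw [MonoidHom.mem_ker, map_mul, map_inv, e, inv_mul_cancel])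
      simpa using mul_mem (hc hc') this
    exact absurd M.index_K (by rw [htop, Subgroup.index_top]; norm_num)
  have htop := M.normal_eq_top hcard φ.ker hker
  have hNS : N ≤ S := fun n hn => by
    have : (⟨n, hn⟩ : N) ∈ φ.ker := htop ▸ Subgroup.mem_top _
    exact (QuotientGroup.eq_one_iff n).1 this
  rw [← hP]
  exact (sup_eq_left.2 hNS).symm

theorem perfect_HN : commutator Spor.HN = ⊤ := by
  let q : FreeGroup Spor.HN.Gen →* Abelianization Spor.HN :=
    Abelianization.of.comp (PresentedGroup.mk _)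
  have hr : ∀ r ∈ Spor.HN.extra, q r = 1 := fun r hr => by
    show Abelianization.of (PresentedGroup.mk _ r) = 1
    rw [PresentedGroup.one_of_mem (Or.inr hr), map_one]
  have r := fun k (hk : k < Spor.HN.extra.length) => hr _ (List.getElem_mem hk)
  set a := q Spor.HN.x with ha
  set b := q Spor.HN.y with hb
  set c := q Spor.HN.z with hc
  set d := q Spor.HN.t with hd
  have e0 := r 0 (by decide)
  have e1 := r 1 (by decide)
  have e3 := r 3 (by decide)
  have e5 := r 5 (by decide)
  have e6 := r 6 (by decide)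
  have e7 := r 7 (by decide)
  have e8 := r 8 (by decide)
  have e9 := r 9 (by decide)
  have e10 := r 10 (by decide)
  have e11 := r 11 (by decide)
  have e13 := r 13 (by decide)
  simp only [Spor.HN.extra, List.getElem_cons_succ, List.getElem_cons_zero, map_mul, map_pow,
    map_inv, ← ha, ← hb, ← hc, ← hd] at e0 e1 e3 e5 e6 e7 e8 e9 e10 e11 e13
  have hcomm : ∀ u v : Abelianization Spor.HN, u⁻¹ * v * u = v := fun u v => by
    rw [mul_comm u⁻¹ v, inv_mul_cancel_right]
  have hab4 : a ^ 4 = 1 := by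
    rw [← e1, show a ^ 4 = a ^ 2 * a ^ 2 from by rw [← pow_add]]
    rw [mul_comm (a ^ 2) b, mul_assoc b, mul_comm b (a ^ 2 * a ^ 2), mul_inv_cancel_right]
  have hb15 : b ^ 15 = 1 := by
    have : (a⁻¹ * b ^ 2 * a * b ^ 3) ^ 3 = b ^ 15 := by
      rw [hcomm, ← pow_add, ← pow_mul]
    rw [← this, e3]
  have hb16 : b ^ 16 = 1 := by
    have e : (a * b * a * b ^ 3) ^ 4 = (a ^ 4) ^ 2 * b ^ 16 := by
      rw [mul_pow, mul_pow, mul_pow, ← pow_mul, ← pow_mul]
      rw [show a ^ 4 * b ^ 4 * a ^ 4 = a ^ 4 * a ^ 4 * b ^ 4 from mul_right_comm _ _ _]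
      rw [mul_assoc, ← pow_add, ← pow_add]
    rw [e, hab4, one_pow, one_mul] at e5
    exact e5
  have hb1 : b = 1 := by rw [pow_succ, hb15, one_mul] at hb16; exact hb16
  rw [hb1] at e8 e9
  simp only [one_pow, inv_one, one_mul, mul_one] at e8 e9
  have ha2 : a ^ 2 = 1 := by
    have key : ∀ u v : Abelianization Spor.HN, u⁻¹ * v⁻¹ * u * v = 1 := fun u v => by
      rw [hcomm, inv_mul_cancel]
    rw [key, one_mul, inv_eq_one] at e8
    exact e8
  have hd1 : d = 1 := by
    have h3 : d ^ 3 = 1 := by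
      have h := e11
      simp [hcomm] at h
      rw [show d ^ 3 = d * d ^ 2 from pow_succ' d 2]
      exact h
    have h2 : d ^ 2 = 1 := by
      have h := e10
      rwa [show (5 : ℕ) = 3 + 2 from rfl, pow_add, h3, one_mul] at h
    rwa [pow_succ, h2, one_mul] at h3
  have hc1 : c = 1 := by
    rw [hd1, mul_one, pow_succ, e6, one_mul] at e13
    exact e13
  have ha1 : a = 1 := by
    have h := e9
    simp [hc1, hcomm] at h
    rw [pow_succ, ha2, one_mul] at h
    exact h
  have hgen : (PresentedGroup.mk _ : FreeGroup Spor.HN.Gen →* Spor.HN).range = ⊤ :=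
    MonoidHom.range_eq_top.2 (QuotientGroup.mk'_surjective _)
  have hall : ∀ w, q w = 1 := fun w => by
    have : q = 1 := FreeGroup.ext_hom _ _ (by rintro (_ | _ | _ | _) <;> assumption)
    rw [this, MonoidHom.one_apply]
  rw [← Abelianization.ker_of, eq_top_iff]
  intro g _
  obtain ⟨w, rfl⟩ : g ∈ (PresentedGroup.mk _ : FreeGroup Spor.HN.Gen →* Spor.HN).range :=
    hgen ▸ Subgroup.mem_top g
  exact MonoidHom.mem_ker.2 (hall w)

end H81.HNCover
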